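import Cfsg.Agent.Lib.Recog.FiFour.Data
import Cfsg.Agent.Lib.Recog.FiThree.CheckOrbits

set_option autoImplicit false
set_option maxRecDepth 20000

/-! Checks in the 31671-point model (owner: helper21). -/

namespace CfsgLib.Recog.FiFour
open CfsgLib.Recog.BitPerm CfsgLib.Recog.FiThree

theorem a_cover : Nat.beq (orbitUnion aLetters aReps) (2 ^ numPoints - 1) = true := by
  unfold numPoints; decide +kernel

theorem b_cover : Nat.beq (orbitUnion bLetters bReps) (2 ^ numPoints - 1) = true := by
  unfold numPoints; decide +kernel

theorem a_reps : (aReps.all fun R => mapsOK net R.word 0 R.pt) = true := by decide +kernel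

theorem b_reps : (bReps.all fun R => mapsOK net R.word 0 R.pt) = true := by decide +kernel

theorem s_chain : chainOK net 128 [] sLevels = true := by decide +kernel

theorem s_total : total sLevels = 14856539443200 := by decide +kernel

end CfsgLib.Recog.FiFour
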