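import Cfsg.Agent.Lib.Recog.FiFour.Spider
import Cfsg.Agent.Lib.Recog.FiFour.CheckModel
import Cfsg.Agent.Lib.Recog.FiThree.Transpositions
import Cfsg.Agent.Lib.Recog.SporBound.WitF24.Valid

set_option autoImplicit false
set_option maxRecDepth 20000
set_option linter.style.haveILetI false

/-!
The subgroup of all letters but `k` of the presented Fi24 has index at most 306936 (owner: helper21).

The subgroup is the image of Fi23 under `x ↦ x * l` times `⟨l⟩`; the three candidate orbits on cosets are shown
to be closed under moving to neighbours, with a few witness words traced in a closure certificate.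
-/

namespace CfsgLib.Recog.FiFour

open Cfsg CfsgLib.Recog.BitPerm CfsgLib.Recog.SporBound CfsgLib.ThreeTrans.CosetIndex

attribute [local instance] FiThree.finite_fi23'

/-- A word in Fi24. -/
abbrev word (w : List ℕ) : Spor.Fi24 := (w.map gg).prod

/-- The letters other than `k`. -/
def hLetters : List ℕ := [0, 1, 2, 3, 4, 5, 6, 7, 8, 9, 11]

/-- The subgroup of the letters other than `k`. -/
abbrev hTop : Subgroup Spor.Fi24 := letterSub Spor.Fi24.edges Spor.Fi24.extra gens24 hLetters

theorem word_append (u v : List ℕ) : word (u ++ v) = word u * word v := by simp [word]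

theorem word_reverse (w : List ℕ) : word w.reverse = (word w)⁻¹ := prod_reverse_eq_inv gg gg_sq w

theorem word_singleton (x : ℕ) : word [x] = gg x := List.prod_singleton

theorem rel_word {w : List ℕ} (h : (relWords Spor.Fi24.edges Spor.Fi24.extra gens24).contains w = true) :
    word w = 1 := relWord_one nodes24 (List.contains_iff_mem.1 h)

theorem comm_of_rel {x y : ℕ} (h : (relWords Spor.Fi24.edges Spor.Fi24.extra gens24).contains [x, y, x, y] = true) :
    gg x * gg y = gg y * gg x := by
  have := rel_word h
  simp only [word, List.map_cons, List.map_nil, List.prod_cons, List.prod_nil, mul_one] at this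
  calc gg x * gg y = (gg x * (gg y * (gg x * gg y))) * (gg y * gg y)⁻¹ * (gg y * (gg x * gg x)⁻¹ * gg x) := by group
    _ = gg y * gg x := by rw [this, gg_sq, gg_sq]; group

theorem braid_of_rel {x y : ℕ}
    (h : (relWords Spor.Fi24.edges Spor.Fi24.extra gens24).contains [x, y, x, y, x, y] = true) :
    gg x * gg y * gg x = gg y * gg x * gg y := by
  have := rel_word h
  simp only [word, List.map_cons, List.map_nil, List.prod_cons, List.prod_nil, mul_one] at this
  calc gg x * gg y * gg x = (gg x * (gg y * (gg x * (gg y * (gg x * gg y))))) * ((gg y)⁻¹ * (gg x)⁻¹ * (gg y)⁻¹) := by group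
    _ = gg y * gg x * gg y := by
      rw [this, inv_eq_of_mul_eq_one_right (gg_sq x), inv_eq_of_mul_eq_one_right (gg_sq y), one_mul]

theorem l_comm {x : ℕ} (hx : x ∈ hLetters) : gg x * gg 11 = gg 11 * gg x := by
  by_cases h : x = 11
  · subst h; rfl
  · exact comm_of_rel ((show ∀ y ∈ hLetters, y ≠ 11 →
      (relWords Spor.Fi24.edges Spor.Fi24.extra gens24).contains [y, 11, y, 11] = true by decide +kernel) x hx h)

theorem l_comm_h {g : Spor.Fi24} (hg : g ∈ hTop) : g * gg 11 = gg 11 * g := by
  have hle : hTop ≤ Subgroup.centralizer {gg 11} := by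
    rw [hTop, letterSub, Subgroup.closure_le]
    rintro _ ⟨x, hx, rfl⟩
    rw [SetLike.mem_coe, Subgroup.mem_centralizer_iff]
    intro y hy
    rw [Set.mem_singleton_iff.1 hy]
    exact (l_comm hx).symm
  exact (Subgroup.mem_centralizer_iff.1 (hle hg) _ rfl).symm

theorem gg_mem {x : ℕ} (hx : x ∈ hLetters) : gg x ∈ hTop := Subgroup.subset_closure ⟨x, hx, rfl⟩

/-- A word with its sign: odd words get the letter `l`. -/
def signed (w : List ℕ) : List ℕ := if w.length % 2 = 1 then w ++ [11] else w

theorem prod_twist : ∀ {w : List ℕ}, (∀ x ∈ w, x ∈ hLetters) →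
    (w.map fun x => gg x * gg 11).prod = word (signed w)
  | [], _ => rfl
  | x :: w, h => by
    have hw : ∀ y ∈ w, y ∈ hLetters := fun y hy => h y (List.mem_cons_of_mem _ hy)
    have hc : word w * gg 11 = gg 11 * word w := l_comm_h (mem_letterSub hw)
    rw [List.map_cons, List.prod_cons, prod_twist hw, signed, signed, List.length_cons]
    rcases Nat.mod_two_eq_zero_or_one w.length with e | e
    · rw [if_neg (by omega), if_pos (by omega), word_append, word_singleton,
        show word (x :: w) = gg x * word w from List.prod_cons, mul_assoc, ← hc, mul_assoc]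
    · rw [if_pos e, if_neg (by omega), word_append, word_singleton,
        show word (x :: w) = gg x * word w from List.prod_cons, hc]
      calc gg x * gg 11 * (gg 11 * word w) = gg x * (gg 11 * gg 11) * word w := by group
        _ = _ := by rw [gg_sq, mul_one]

/-- The E7 word. -/
def sevenW : List ℕ := (List.replicate 9 [0, 1, 2, 3, 4, 5, 7]).flatten

theorem seven_eq : word sevenW = gg 11 := by
  have h := rel_word (w := [11] ++ sevenW.reverse) (by decide +kernel)
  rw [word_append, word_singleton, word_reverse, mul_inv_eq_one] at h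
  exact h.symm

theorem rels23_ok : ((relWords Spor.Fi23.edges Spor.Fi23.extra FiThree.gens).all fun w => w.all (hLetters.contains ·) &&
    (((w.length % 2 == 0) && ((relWords Spor.Fi24.edges Spor.Fi24.extra gens24).contains w || w == spider)) ||
      w == sevenW)) = true := by decide +kernel

/-- The twisted embedding of Fi23. -/
noncomputable def iota : Spor.Fi23 →* Spor.Fi24 :=
  PresentedGroup.toGroup (f := fun y => gg (FiThree.gens.idxOf y) * gg 11) (by
    intro r hr
    have hsq : ∀ x, (if x ∈ hLetters then gg x * gg 11 else 1) * (if x ∈ hLetters then gg x * gg 11 else 1) = (1 : Spor.Fi24) := by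
      intro x
      split_ifs with hx
      · calc gg x * gg 11 * (gg x * gg 11) = gg x * (gg 11 * gg x) * gg 11 := by group
          _ = gg x * gg x * (gg 11 * gg 11) := by rw [← l_comm hx]; group
          _ = 1 := by rw [gg_sq, gg_sq, one_mul]
      · exact one_mul _
    rw [hom_eq_prod FiThree.gens _ (fun x => if x ∈ hLetters then gg x * gg 11 else 1) (fun y => by
      rw [FreeGroup.lift_apply_of, if_pos]
      exact (show ∀ z : Spor.Fi23.Gen, FiThree.gens.idxOf z ∈ hLetters by intro z; cases z <;> decide) y) hsq]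
    have hw : letters FiThree.gens r ∈ relWords Spor.Fi23.edges Spor.Fi23.extra FiThree.gens := by
      rw [relWords, List.mem_append]
      rcases hr with ⟨x, hx, y, hy, rfl⟩ | hr
      · exact Or.inl (List.mem_flatMap.2 ⟨x, hx, List.mem_map.2 ⟨y, hy, rfl⟩⟩)
      · exact Or.inr (List.mem_map.2 ⟨r, hr, rfl⟩)
    have h := List.all_eq_true.1 rels23_ok _ hw
    simp only [Bool.and_eq_true, Bool.or_eq_true, List.all_eq_true, List.contains_iff_mem, beq_iff_eq] at h
    obtain ⟨hl, h⟩ := h
    rw [List.map_congr_left (g := fun x => gg x * gg 11) fun x hx => if_pos (hl x hx), prod_twist hl, signed]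
    rcases h with ⟨he, h2⟩ | h2
    · rw [if_neg (by omega)]
      rcases h2 with h2 | h2
      · exact rel_word (List.contains_iff_mem.2 h2)
      · rw [h2]; exact spider_one
    · rw [h2, if_pos (by decide +kernel), word_append, word_singleton, seven_eq, gg_sq])

theorem iota_gg {x : ℕ} (hx : x < 10) : iota (FiThree.gg x) = gg x * gg 11 := by
  have hlen : x < FiThree.gens.length := hx
  unfold FiThree.gg gen
  rw [List.getElem?_eq_getElem hlen]
  show iota (PresentedGroup.of FiThree.gens[x]) = _
  rw [iota, PresentedGroup.toGroup.of, (show FiThree.gens.Nodup by decide).idxOf_getElem _ hlen]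

theorem lt_mem {x : ℕ} (hx : x < 10) : x ∈ hLetters := (show ∀ y < 10, y ∈ hLetters by decide) x hx

theorem iota_word {w : List ℕ} (hw : w.all (· < 10) = true) : iota (FiThree.word w) = word (signed w) := by
  have hw' : ∀ x ∈ w, x < 10 := fun x hx => by simpa using List.all_eq_true.1 hw x hx
  rw [← prod_twist (fun x hx => lt_mem (hw' x hx)), map_list_prod, List.map_map]
  exact congrArg List.prod (List.map_congr_left fun x hx => iota_gg (hw' x hx))

theorem gen_induction {p : Spor.Fi23 → Prop} {L : List ℕ} (h1 : p 1) (hm : ∀ u v, p u → p v → p (u * v))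
    (hg : ∀ x ∈ L, p (FiThree.gg x)) :
    ∀ u ∈ letterSub Spor.Fi23.edges Spor.Fi23.extra FiThree.gens L, p u := by
  intro u hu
  induction hu using Subgroup.closure_induction'' with
  | mem u hu => obtain ⟨x, hx, rfl⟩ := hu; exact hg x hx
  | inv_mem u hu =>
    obtain ⟨x, hx, rfl⟩ := hu
    rw [inv_eq_of_mul_eq_one_right (FiThree.gg_sq x)]
    exact hg x hx
  | one => exact h1
  | mul u v _ _ i1 i2 => exact hm u v i1 i2

theorem iota_mem (u : Spor.Fi23) : iota u ∈ hTop := by
  refine gen_induction (p := fun u => iota u ∈ hTop) (L := List.range 10) ?_ ?_ ?_ u ?_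
  · rw [map_one]; exact one_mem _
  · intro u v hu hv; rw [map_mul]; exact mul_mem hu hv
  · intro x hx
    rw [iota_gg (List.mem_range.1 hx)]
    exact mul_mem (gg_mem (lt_mem (List.mem_range.1 hx))) (gg_mem (by decide))
  · rw [show List.range 10 = List.range FiThree.gens.length from rfl, letterSub_range FiThree.nodes]
    exact Subgroup.mem_top u

theorem hTop_elem {h : Spor.Fi24} (hh : h ∈ hTop) : ∃ u, h = iota u ∨ h = iota u * gg 11 := by
  induction hh using Subgroup.closure_induction'' with
  | mem g hg =>
    obtain ⟨x, hx, rfl⟩ := hg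
    by_cases h : x = 11
    · subst h; exact ⟨1, Or.inr (by rw [map_one, one_mul])⟩
    · have hx10 : x < 10 := (show ∀ y ∈ hLetters, y ≠ 11 → y < 10 by decide) x hx h
      refine ⟨FiThree.gg x, Or.inr ?_⟩
      rw [iota_gg hx10, mul_assoc, gg_sq, mul_one]
  | inv_mem g hg =>
    obtain ⟨x, hx, rfl⟩ := hg
    rw [inv_eq_of_mul_eq_one_right (gg_sq x)]
    by_cases h : x = 11
    · subst h; exact ⟨1, Or.inr (by rw [map_one, one_mul])⟩
    · have hx10 : x < 10 := (show ∀ y ∈ hLetters, y ≠ 11 → y < 10 by decide) x hx h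
      refine ⟨FiThree.gg x, Or.inr ?_⟩
      rw [iota_gg hx10, mul_assoc, gg_sq, mul_one]
  | one => exact ⟨1, Or.inl (map_one _).symm⟩
  | mul g g' _ _ i1 i2 =>
    obtain ⟨u, hu⟩ := i1
    obtain ⟨v, hv⟩ := i2
    have c := l_comm_h (iota_mem v)
    rcases hu with rfl | rfl <;> rcases hv with rfl | rfl
    · exact ⟨u * v, Or.inl (map_mul _ _ _).symm⟩
    · exact ⟨u * v, Or.inr (by rw [map_mul, mul_assoc])⟩
    · exact ⟨u * v, Or.inr (by rw [map_mul, mul_assoc, ← c, mul_assoc])⟩
    · refine ⟨u * v, Or.inl ?_⟩
      calc iota u * gg 11 * (iota v * gg 11) = iota u * (gg 11 * iota v) * gg 11 := by group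
        _ = iota u * iota v * (gg 11 * gg 11) := by rw [← c]; group
        _ = _ := by rw [gg_sq, mul_one, map_mul]

/-- Cancelling equal neighbours. -/
def cancel : List ℕ → List ℕ
  | [] => []
  | x :: w => match cancel w with
    | [] => [x]
    | y :: r => if x = y then r else x :: y :: r

theorem word_cancel : ∀ w, word (cancel w) = word w
  | [] => rfl
  | x :: w => by
    have ih := word_cancel w
    show word (match cancel w with | [] => [x] | y :: r => if x = y then r else x :: y :: r) = _
    cases h : cancel w with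
    | nil =>
      rw [h] at ih
      show gg x * 1 = gg x * word w
      rw [← ih]; rfl
    | cons y r =>
      rw [h] at ih
      show word (if x = y then r else x :: y :: r) = gg x * word w
      rw [← ih]
      split_ifs with hxy
      · subst hxy
        show word r = gg x * (gg x * word r)
        rw [← mul_assoc, gg_sq, one_mul]
      · rfl

/-- A traced witness. -/
noncomputable def witOK (i : ℕ) (w : List ℕ) : Bool :=
  WitF24.cert.endsAt (WitF24.closers.getD i 0) 0 (cancel w) && Nat.beq (fld (WitF24.closers.getD i 0) 0) 0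

theorem wit_rels : WitF24.cert.rels.all (fun w =>
    (relWords Spor.Fi24.edges Spor.Fi24.extra gens24).contains w || [spider].contains w) = true := by decide +kernel

theorem wit_subs : WitF24.cert.subs.all (fun w => w.all (hLetters.contains ·)) = true := by decide +kernel

theorem wit_mem {i : ℕ} {w : List ℕ} (h : witOK i w = true) : word w ∈ hTop := by
  obtain ⟨v, hv0, good, -⟩ := Cert.exists_orbit (gen_inv nodes24) (gen_eq nodes24) WitF24.ok hTop
    (rels_one nodes24 (more := [spider]) (fun w hw => by rw [List.mem_singleton.1 hw]; exact spider_one) wit_rels)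
    (wordsIn_letterSub wit_subs)
  simp only [witOK, Bool.and_eq_true] at h
  rw [← word_cancel]
  exact Cert.mem_of_endsAt (gen_inv nodes24) (gen_eq nodes24) WitF24.ok hv0 good h.1 (Nat.eq_of_beq_eq_true h.2)

/-- The conjugated involution, aligned with the point of the central involution. -/
def oneW : List ℕ := FiThree.ga.reverse ++ gW

/-- The element moving the base point to the first commuting point. -/
abbrev g1 : Spor.Fi24 := word oneW

/-- The target of a representative. -/
def target (R : Rep) : List ℕ :=
  if R.kind = 0 then [] else if R.kind = 1 then signed R.tgt ++ oneW else signed R.tgt ++ [10]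

/-- The witness word of a representative. -/
def repW (first : List ℕ) (R : Rep) : List ℕ := (target R).reverse ++ first ++ signed R.word ++ oneW

theorem stab_wit : ((List.range 9).all fun x => witOK x (oneW.reverse ++ [x, 11] ++ oneW)) = true := by decide +kernel

theorem l_wit : witOK 9 (oneW.reverse ++ [11] ++ oneW) = true := by decide +kernel

theorem t_wit : witOK 10 ([10] ++ tW ++ [10]) = true := by decide +kernel

theorem a_wit : ((List.range 9).all fun i => witOK (11 + i) (repW gW (aReps.getD i ⟨0, 0, [], 0, []⟩))) = true := by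
  decide +kernel

theorem b_wit : ((List.range 3).all fun i => witOK (20 + i) (repW [10] (bReps.getD i ⟨0, 0, [], 0, []⟩))) = true := by
  decide +kernel

theorem rep_letters : ((aReps ++ bReps).all fun R => R.word.all (· < 10) && R.tgt.all (· < 10)) = true := by
  decide +kernel

theorem stab_mem {h : Spor.Fi23} (hh : h ∈ FiThree.hSub) : g1⁻¹ * iota h * g1 ∈ hTop := by
  refine gen_induction (p := fun h => g1⁻¹ * iota h * g1 ∈ hTop) ?_ ?_ ?_ h hh
  · rw [map_one, mul_one, inv_mul_cancel]; exact one_mem _
  · intro u v hu hv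
    rw [map_mul, show g1⁻¹ * (iota u * iota v) * g1 = (g1⁻¹ * iota u * g1) * (g1⁻¹ * iota v * g1) by group]
    exact mul_mem hu hv
  · intro x hx
    have h9 : x < 9 := (show ∀ y ∈ FiThree.hLetters, y < 9 by decide) x hx
    have h := wit_mem (List.all_eq_true.1 stab_wit x (List.mem_range.2 h9))
    rw [word_append, word_append, word_reverse, show word [x, 11] = gg x * gg 11 by simp [word]] at h
    rw [iota_gg (by omega)]
    exact h

theorem l_fix : g1⁻¹ * gg 11 * g1 ∈ hTop := by
  have h := wit_mem l_wit
  rwa [word_append, word_append, word_reverse, word_singleton] at h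

theorem same_pt {u v : Spor.Fi23} (h : FiThree.pt u = FiThree.pt v) : (iota u * g1)⁻¹ * (iota v * g1) ∈ hTop := by
  have := stab_mem (FiThree.pt_eq_iff.1 h)
  rw [show (iota u * g1)⁻¹ * (iota v * g1) = g1⁻¹ * iota (u⁻¹ * v) * g1 by rw [map_mul, map_inv]; group]
  exact this

/-- The coset of `x` lies in one of the three orbits. -/
def InU (x : Spor.Fi24) : Prop :=
  x ∈ hTop ∨ (∃ u, (iota u * g1)⁻¹ * x ∈ hTop) ∨ ∃ u, (iota u * gg 10)⁻¹ * x ∈ hTop

theorem inU_right {x h : Spor.Fi24} (hx : InU x) (hh : h ∈ hTop) : InU (x * h) := by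
  rcases hx with hx | ⟨u, hx⟩ | ⟨u, hx⟩
  · exact Or.inl (mul_mem hx hh)
  · exact Or.inr (Or.inl ⟨u, by rw [← mul_assoc]; exact mul_mem hx hh⟩)
  · exact Or.inr (Or.inr ⟨u, by rw [← mul_assoc]; exact mul_mem hx hh⟩)

theorem k_comm {x : ℕ} (hx : x ∈ bLetters) : gg x * gg 10 = gg 10 * gg x :=
  comm_of_rel ((show ∀ y ∈ bLetters,
    (relWords Spor.Fi24.edges Spor.Fi24.extra gens24).contains [y, 10, y, 10] = true by decide +kernel) x hx)

theorem inU_left {x h : Spor.Fi24} (hh : h ∈ hTop) (hx : InU x) : InU (h * x) := by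
  obtain ⟨v, hv⟩ := hTop_elem hh
  rcases hx with hx | ⟨u, hx⟩ | ⟨u, hx⟩
  · exact Or.inl (mul_mem hh hx)
  · refine Or.inr (Or.inl ⟨v * u, ?_⟩)
    rcases hv with rfl | rfl
    · rw [show (iota (v * u) * g1)⁻¹ * (iota v * x) = (iota u * g1)⁻¹ * x by rw [map_mul]; group]
      exact hx
    · have c := l_comm_h (iota_mem u)
      rw [show (iota (v * u) * g1)⁻¹ * (iota v * gg 11 * x) =
        g1⁻¹ * ((iota u)⁻¹ * (gg 11 * iota u)) * g1 * ((iota u * g1)⁻¹ * x) by rw [map_mul]; group, ← c,
        inv_mul_cancel_left]
      exact mul_mem l_fix hx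
  · rcases hv with rfl | rfl
    · refine Or.inr (Or.inr ⟨v * u, ?_⟩)
      rw [show (iota (v * u) * gg 10)⁻¹ * (iota v * x) = (iota u * gg 10)⁻¹ * x by rw [map_mul]; group]
      exact hx
    · refine Or.inr (Or.inr ⟨v * u * FiThree.gg 1, ?_⟩)
      have c := l_comm_h (iota_mem u)
      have e : (iota (v * u * FiThree.gg 1) * gg 10)⁻¹ * (iota v * gg 11 * x) =
          gg 1 * ((iota u * gg 10)⁻¹ * x) := by
        have e1 : (gg 1 * gg 11 * gg 10)⁻¹ * (gg 11 * gg 10) = gg 1 := by
          have i1 := inv_eq_of_mul_eq_one_right (gg_sq 1)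
          calc (gg 1 * gg 11 * gg 10)⁻¹ * (gg 11 * gg 10) = (gg 10)⁻¹ * ((gg 11)⁻¹ * (gg 1)⁻¹ * gg 11) * gg 10 := by group
            _ = (gg 10)⁻¹ * ((gg 11)⁻¹ * (gg 1 * gg 11)) * gg 10 := by rw [i1]; group
            _ = (gg 10)⁻¹ * (gg 1 * gg 10) := by rw [l_comm (by decide), inv_mul_cancel_left, mul_assoc]
            _ = gg 1 := by rw [k_comm (by decide), inv_mul_cancel_left]
        rw [map_mul, map_mul, iota_gg (by decide)]
        calc (iota v * iota u * (gg 1 * gg 11) * gg 10)⁻¹ * (iota v * gg 11 * x)
            = (gg 1 * gg 11 * gg 10)⁻¹ * ((iota u)⁻¹ * (gg 11 * iota u)) * gg 10 * ((iota u * gg 10)⁻¹ * x) := by group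
          _ = (gg 1 * gg 11 * gg 10)⁻¹ * (gg 11 * gg 10) * ((iota u * gg 10)⁻¹ * x) := by
              rw [← c, inv_mul_cancel_left]; group
          _ = _ := by rw [e1]
      rw [e]
      exact mul_mem (gg_mem (by decide)) hx

theorem orbitUnion_sub {L : List ℕ} : ∀ {Rs : List Rep} {c : ℕ}, (orbitUnion L Rs).testBit c = true →
    ∃ R ∈ Rs, ∃ m ∈ letterSub Spor.Fi23.edges Spor.Fi23.extra FiThree.gens L, FiThree.act m R.pt = c
  | [], c, h => by
    change (0 : ℕ).testBit c = true at h
    rw [Nat.zero_testBit] at h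
    exact absurd h Bool.false_ne_true
  | R :: Rs, c, h => by
    change ((orbitSet FiThree.net (L.map fun x => [x]) R.pt R.rounds) ||| orbitUnion L Rs).testBit c = true at h
    rw [Nat.testBit_or, Bool.or_eq_true] at h
    rcases h with h | h
    · obtain ⟨-, ⟨m, hm, rfl⟩, e⟩ := orbitSet_sub FiThree.acts.valid
        (K := (letterSub Spor.Fi23.edges Spor.Fi23.extra FiThree.gens L).map FiThree.act) (fun w hw => by
          obtain ⟨x, hx, rfl⟩ := List.mem_map.1 hw
          exact ⟨FiThree.word [x], mem_letterSub fun y hy => by rw [List.mem_singleton.1 hy]; exact hx,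
            FiThree.act_word _⟩) _ c h
      exact ⟨R, List.mem_cons_self, m, hm, e⟩
    · obtain ⟨R', hR', h'⟩ := orbitUnion_sub h
      exact ⟨R', List.mem_cons_of_mem _ hR', h'⟩

theorem move_form {L : List ℕ} (hL : ∀ x ∈ L, x < 10) {first : Spor.Fi24}
    (hc : ∀ x ∈ L, gg x * first = first * gg x) :
    ∀ m ∈ letterSub Spor.Fi23.edges Spor.Fi23.extra FiThree.gens L, ∃ m' ∈ hTop,
      m' * first = first * m' ∧ (iota m = m' ∨ iota m = m' * gg 11) := by
  refine gen_induction ⟨1, one_mem _, by group, Or.inl (map_one _)⟩ ?_ ?_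
  · rintro u v ⟨u', hu', cu, hu⟩ ⟨v', hv', cv, hv⟩
    refine ⟨u' * v', mul_mem hu' hv', by rw [mul_assoc, cv, ← mul_assoc, cu, mul_assoc], ?_⟩
    have c := l_comm_h hv'
    rw [map_mul]
    rcases hu with hu | hu <;> rcases hv with hv | hv <;> rw [hu, hv]
    · exact Or.inl rfl
    · exact Or.inr (by group)
    · exact Or.inr (by rw [mul_assoc, ← c]; group)
    · refine Or.inl ?_
      calc u' * gg 11 * (v' * gg 11) = u' * (gg 11 * v') * gg 11 := by group
        _ = u' * v' * (gg 11 * gg 11) := by rw [← c]; group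
        _ = _ := by rw [gg_sq, mul_one]
  · intro x hx
    exact ⟨gg x, gg_mem (lt_mem (hL x hx)), hc x hx, Or.inr (iota_gg (hL x hx))⟩

theorem word_nil : word [] = 1 := List.prod_nil

theorem neighbours {L : List ℕ} {Rs : List Rep} {first : List ℕ} {i0 : ℕ} (hL : ∀ x ∈ L, x < 10)
    (hc : ∀ x ∈ L, gg x * word first = word first * gg x) (hlet : ∀ R ∈ Rs, R ∈ aReps ++ bReps)
    (hpts : (Rs.all fun R => mapsOK FiThree.net R.word 0 R.pt) = true)
    (hcov : Nat.beq (orbitUnion L Rs) (2 ^ FiThree.numPoints - 1) = true)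
    (hwit : ((List.range Rs.length).all fun i => witOK (i0 + i) (repW first (Rs.getD i ⟨0, 0, [], 0, []⟩))) = true)
    (v : Spor.Fi23) : InU (word first * iota v * g1) := by
  have key : ∀ n : ℕ, Nat.beq (orbitUnion L Rs) (2 ^ n - 1) = true → FiThree.pt v < n →
      (orbitUnion L Rs).testBit (FiThree.pt v) = true := fun n h hn => by
    rw [Nat.eq_of_beq_eq_true h, Nat.testBit_two_pow_sub_one, decide_eq_true hn]
  obtain ⟨R, hR, m, hm, e⟩ := orbitUnion_sub
    (key FiThree.numPoints hcov (FiThree.numPoints_eq.symm ▸ FiThree.pt_lt v))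
  have hl := List.all_eq_true.1 rep_letters R (hlet R hR)
  simp only [Bool.and_eq_true] at hl
  have hpt : FiThree.pt (m * FiThree.word R.word) = FiThree.pt v := by
    rw [FiThree.pt, map_mul, Equiv.Perm.mul_apply, FiThree.act_maps (List.all_eq_true.1 hpts R hR), e]
  have h1 := same_pt hpt
  obtain ⟨i, hi, hRi⟩ := List.getElem_of_mem hR
  have hw := wit_mem (List.all_eq_true.1 hwit i (List.mem_range.2 hi))
  rw [List.getD_eq_getElem _ _ hi, hRi, repW, word_append, word_append, word_append, word_reverse,
    ← iota_word hl.1] at hw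
  set X := word first * iota (FiThree.word R.word) * g1 with hX
  have hw' : (word (target R))⁻¹ * X ∈ hTop := by rw [hX, ← mul_assoc, ← mul_assoc]; exact hw
  have hXU : InU X := by
    unfold target at hw'
    split_ifs at hw' with k0 k1
    · rw [word_nil, inv_one, one_mul] at hw'
      exact Or.inl hw'
    · rw [word_append, ← iota_word hl.2] at hw'
      exact Or.inr (Or.inl ⟨_, hw'⟩)
    · rw [word_append, ← iota_word hl.2, word_singleton] at hw'
      exact Or.inr (Or.inr ⟨_, hw'⟩)
  obtain ⟨m', hm', cm, hform⟩ := move_form hL hc m hm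
  have hmove : ∃ h ∈ hTop, word first * iota m * iota (FiThree.word R.word) * g1 = m' * X * h := by
    rcases hform with hform | hform
    · refine ⟨1, one_mem _, ?_⟩
      rw [hform, ← cm, hX]; group
    · refine ⟨g1⁻¹ * gg 11 * g1, l_fix, ?_⟩
      have c := l_comm_h (iota_mem (FiThree.word R.word))
      calc word first * iota m * iota (FiThree.word R.word) * g1
          = word first * m' * (gg 11 * iota (FiThree.word R.word)) * g1 := by rw [hform]; group
        _ = m' * word first * (iota (FiThree.word R.word) * gg 11) * g1 := by rw [← c, ← cm]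
        _ = _ := by rw [hX]; group
  obtain ⟨h, hh, he⟩ := hmove
  rw [show word first * iota v * g1 = (word first * iota m * iota (FiThree.word R.word) * g1) *
    ((iota (m * FiThree.word R.word) * g1)⁻¹ * (iota v * g1)) by rw [map_mul]; group, he]
  exact inU_right (inU_right (inU_left hm' hXU) hh) h1

theorem g_comm {x : ℕ} (hx : x ∈ aLetters) : gg x * word gW = word gW * gg x := by
  have h10 := k_comm ((show ∀ y ∈ aLetters, y ∈ bLetters by decide) x hx)
  have h11 := l_comm ((show ∀ y ∈ aLetters, y ∈ hLetters by decide) x hx)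
  have h0 := comm_of_rel ((show ∀ y ∈ aLetters,
    (relWords Spor.Fi24.edges Spor.Fi24.extra gens24).contains [y, 0, y, 0] = true by decide +kernel) x hx)
  have e : word gW = gg 10 * gg 0 * gg 11 * gg 10 := by simp [word, gW, mul_assoc]
  have c : Commute (gg x) (gg 10 * gg 0 * gg 11 * gg 10) :=
    ((Commute.mul_right h10 h0).mul_right h11).mul_right h10
  rw [e]
  exact c

theorem g_ga : word gW = word FiThree.ga * g1 := by
  rw [g1, oneW, word_append, word_reverse, mul_inv_cancel_left]

theorem ga_iota : word FiThree.ga = iota (FiThree.word FiThree.ga) := by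
  rw [iota_word (by decide +kernel), signed, if_neg (by decide +kernel)]

theorem inU_g1 (v : Spor.Fi23) : InU (g1 * iota v * g1) := by
  have h := neighbours (L := aLetters) (Rs := aReps) (i0 := 11) (by decide) (fun x hx => g_comm hx)
    (fun R hR => List.mem_append_left _ hR) a_reps a_cover a_wit v
  have := inU_left (inv_mem (iota_mem (FiThree.word FiThree.ga))) h
  rwa [← ga_iota, g_ga, show (word FiThree.ga)⁻¹ * (word FiThree.ga * g1 * iota v * g1) = g1 * iota v * g1 by group] at this

theorem inU_k (v : Spor.Fi23) : InU (gg 10 * iota v * g1) := by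
  have h := neighbours (L := bLetters) (Rs := bReps) (first := [10]) (i0 := 20) (by decide)
    (fun x hx => by rw [word_singleton]; exact k_comm hx) (fun R hR => List.mem_append_right _ hR) b_reps b_cover b_wit v
  rwa [word_singleton] at h

theorem inU_g {x : Spor.Fi24} (hx : InU x) : InU (x * word gW) := by
  have hg : ∀ h ∈ hTop, InU (h * word gW) := fun h hh => inU_left hh (Or.inr (Or.inl
    ⟨FiThree.word FiThree.ga, by rw [g_ga, ← ga_iota, inv_mul_cancel]; exact one_mem _⟩))
  have key : ∀ c : Spor.Fi24, (∀ v, InU (c * iota v * g1)) → ∀ h ∈ hTop, InU (c * h * word gW) := by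
    intro c hc h hh
    rcases hg h hh with h' | ⟨v, h'⟩ | ⟨v, h'⟩
    · -- the neighbour cannot fall back to the base
      rw [show c * h * word gW = c * (h * word gW) by group]
      exact inU_right (by
        have := hc (FiThree.word FiThree.ga)
        rw [mul_assoc, ← ga_iota, ← g_ga] at this
        have h2 : word gW ∈ hTop := by
          have := mul_mem (inv_mem hh) h'
          rwa [inv_mul_cancel_left] at this
        have := inU_right this (inv_mem h2)
        rwa [mul_inv_cancel_right] at this) h'
    · rw [show c * h * word gW = c * iota v * g1 * ((iota v * g1)⁻¹ * (h * word gW)) by group]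
      exact inU_right (hc v) h'
    · -- translate through `h`
      obtain ⟨u, hu⟩ := hTop_elem hh
      rcases hu with rfl | rfl
      · rw [show c * iota u * word gW = c * iota (u * FiThree.word FiThree.ga) * g1 by
          rw [g_ga, ga_iota, map_mul]; group]
        exact hc _
      · have e := l_comm_h (iota_mem (FiThree.word FiThree.ga))
        rw [show c * (iota u * gg 11) * word gW =
            c * iota (u * FiThree.word FiThree.ga) * g1 * (g1⁻¹ * gg 11 * g1) by
          rw [g_ga, ga_iota, map_mul]
          calc c * (iota u * gg 11) * (iota (FiThree.word FiThree.ga) * g1)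
              = c * iota u * (gg 11 * iota (FiThree.word FiThree.ga)) * g1 := by group
            _ = _ := by rw [← e]; group]
        exact inU_right (hc _) l_fix
  rcases hx with hx | ⟨u, hx⟩ | ⟨u, hx⟩
  · exact hg x hx
  · rw [show x * word gW = iota u * (g1 * ((iota u * g1)⁻¹ * x) * word gW) by group]
    exact inU_left (iota_mem u) (key g1 inU_g1 _ hx)
  · rw [show x * word gW = iota u * (gg 10 * ((iota u * gg 10)⁻¹ * x) * word gW) by group]
    exact inU_left (iota_mem u) (key (gg 10) inU_k _ hx)

theorem k_eq : gg 10 = gg 0 * gg 1 * word gW * gg 1 * word gW * gg 1 * gg 0 := by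
  have e : word gW = gg 10 * gg 0 * gg 11 * gg 10 := by simp [word, gW, mul_assoc]
  have la := l_comm (show (0 : ℕ) ∈ hLetters by decide)
  have lb := l_comm (show (1 : ℕ) ∈ hLetters by decide)
  have kb := k_comm (show (1 : ℕ) ∈ bLetters by decide)
  have ab := braid_of_rel (x := 0) (y := 1) (by decide +kernel)
  have ka := braid_of_rel (x := 10) (y := 0) (by decide +kernel)
  have main : word gW * gg 1 * word gW = gg 1 * gg 0 * gg 10 * gg 0 * gg 1 := by
    rw [e]
    calc gg 10 * gg 0 * gg 11 * gg 10 * gg 1 * (gg 10 * gg 0 * gg 11 * gg 10)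
        = gg 10 * gg 0 * gg 11 * (gg 10 * gg 1) * gg 10 * gg 0 * gg 11 * gg 10 := by group
      _ = gg 10 * gg 0 * gg 11 * gg 1 * (gg 10 * gg 10) * gg 0 * gg 11 * gg 10 := by rw [← kb]; group
      _ = gg 10 * gg 0 * (gg 11 * gg 1) * (gg 0 * gg 11) * gg 10 := by rw [gg_sq]; group
      _ = gg 10 * gg 0 * gg 1 * (gg 11 * gg 11) * gg 0 * gg 10 := by rw [← lb, la]; group
      _ = gg 10 * (gg 0 * gg 1 * gg 0) * gg 10 := by rw [gg_sq]; group
      _ = (gg 10 * gg 1) * gg 0 * (gg 1 * gg 10) := by rw [ab]; group
      _ = gg 1 * (gg 10 * gg 0 * gg 10) * gg 1 := by rw [← kb]; nth_rw 2 [kb]; group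
      _ = _ := by rw [ka]; group
  calc gg 10 = gg 0 * ((gg 1 * gg 1) * (gg 0 * gg 10 * gg 0) * (gg 1 * gg 1)) * gg 0 := by
        rw [gg_sq]
        calc gg 10 = (gg 0 * gg 0) * gg 10 * (gg 0 * gg 0) := by rw [gg_sq, one_mul, mul_one]
          _ = _ := by group
    _ = gg 0 * gg 1 * (gg 1 * gg 0 * gg 10 * gg 0 * gg 1) * gg 1 * gg 0 := by group
    _ = _ := by rw [← main]; group

theorem inU_all (x : Spor.Fi24) : InU x := by
  have hx : x ∈ Subgroup.closure (Set.range gg) := by rw [SporBound.closure_gen nodes24]; exact Subgroup.mem_top x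
  have key : ∀ y, InU y → InU (y * x) := by
    induction hx using Subgroup.closure_induction'' with
    | mem g hg =>
      obtain ⟨z, rfl⟩ := hg
      intro y hy
      by_cases hz : z ∈ hLetters
      · exact inU_right hy (gg_mem hz)
      by_cases h10 : z = 10
      · subst h10
        have h0 := gg_mem (show (0 : ℕ) ∈ hLetters by decide)
        have h1 := gg_mem (show (1 : ℕ) ∈ hLetters by decide)
        rw [k_eq, ← mul_assoc, ← mul_assoc, ← mul_assoc, ← mul_assoc, ← mul_assoc, ← mul_assoc]
        exact inU_right (inU_right (inU_g (inU_right (inU_g (inU_right (inU_right hy h0) h1)) h1)) h1) h0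
      · have : gg z = 1 := by
          show gen _ _ gens24 z = 1
          rw [gen, List.getElem?_eq_none]
          · rfl
          · show 12 ≤ z
            simp only [hLetters, List.mem_cons, List.not_mem_nil, or_false] at hz
            omega
        rw [this, mul_one]; exact hy
    | inv_mem g hg =>
      obtain ⟨z, rfl⟩ := hg
      rw [inv_eq_of_mul_eq_one_right (gg_sq z)]
      intro y hy
      by_cases hz : z ∈ hLetters
      · exact inU_right hy (gg_mem hz)
      by_cases h10 : z = 10
      · subst h10
        have h0 := gg_mem (show (0 : ℕ) ∈ hLetters by decide)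
        have h1 := gg_mem (show (1 : ℕ) ∈ hLetters by decide)
        rw [k_eq, ← mul_assoc, ← mul_assoc, ← mul_assoc, ← mul_assoc, ← mul_assoc, ← mul_assoc]
        exact inU_right (inU_right (inU_g (inU_right (inU_g (inU_right (inU_right hy h0) h1)) h1)) h1) h0
      · have : gg z = 1 := by
          show gen _ _ gens24 z = 1
          rw [gen, List.getElem?_eq_none]
          · rfl
          · show 12 ≤ z
            simp only [hLetters, List.mem_cons, List.not_mem_nil, or_false] at hz
            omega
        rw [this, mul_one]; exact hy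
    | one => intro y hy; rwa [mul_one]
    | mul a b _ _ i1 i2 => intro y hy; rw [← mul_assoc]; exact i2 _ (i1 y hy)
  simpa using key 1 (Or.inl (one_mem _))

/-- The elements of Fi23 fixing the point of `k`. -/
noncomputable def kStab : Subgroup Spor.Fi23 := (hTop.map (MulAut.conj (gg 10)).toMonoidHom).comap iota

theorem mem_kStab {u : Spor.Fi23} (h : gg 10 * iota u * gg 10 ∈ hTop) : u ∈ kStab := by
  refine ⟨gg 10 * iota u * gg 10, h, ?_⟩
  show gg 10 * (gg 10 * iota u * gg 10) * (gg 10)⁻¹ = iota u
  calc _ = (gg 10 * gg 10) * iota u := by group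
    _ = _ := by rw [gg_sq, one_mul]

theorem s_words : (sLevels.all fun l => l.gens.all fun w =>
    ((w.length % 2 == 0) && w.all (bLetters.contains ·)) || w == tW) = true := by decide +kernel

theorem card_kStab : 14856539443200 ≤ Nat.card kStab := by
  have hφ : ∀ l ∈ sLevels, ∀ w ∈ l.gens, wordPerm FiThree.net w ∈ (FiThree.act.comp kStab.subtype).range := by
    intro l hl w hw
    refine ⟨⟨FiThree.word w, mem_kStab ?_⟩, FiThree.act_word w⟩
    have h := List.all_eq_true.1 (List.all_eq_true.1 s_words l hl) w hw
    simp only [Bool.and_eq_true, Bool.or_eq_true, beq_iff_eq, List.all_eq_true, List.contains_iff_mem] at h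
    rcases h with ⟨he, hb⟩ | h
    · have hlt : w.all (· < 10) = true := List.all_eq_true.2 fun x hx => decide_eq_true
        ((show ∀ y ∈ bLetters, y < 10 by decide) x (hb x hx))
      rw [iota_word hlt, signed, if_neg (by omega)]
      have hc : ∀ v : List ℕ, (∀ x ∈ v, x ∈ bLetters) → gg 10 * word v = word v * gg 10 := by
        intro v hv
        induction v with
        | nil => rw [word_nil, mul_one, one_mul]
        | cons x v ih =>
          show gg 10 * (gg x * word v) = gg x * word v * gg 10
          rw [← mul_assoc, ← k_comm (hv x List.mem_cons_self), mul_assoc, ih fun y hy => hv y (List.mem_cons_of_mem _ hy),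
            mul_assoc]
      rw [hc w hb, mul_assoc, gg_sq, mul_one]
      exact mem_letterSub fun x hx => lt_mem ((show ∀ y ∈ bLetters, y < 10 by decide) x (hb x hx))
    · subst h
      rw [iota_word (by decide +kernel), signed, if_neg (by decide +kernel)]
      have h := wit_mem t_wit
      rwa [word_append, word_append, word_singleton] at h
  have h := total_mul_ker_le_card FiThree.acts.valid (FiThree.act.comp kStab.subtype) hφ s_chain
  rw [s_total] at h
  exact le_trans (Nat.le_mul_of_pos_right _ Nat.card_pos) h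

theorem index_kStab : kStab.index ≤ 275264 := by
  have h := Subgroup.card_mul_index kStab
  rw [FiThree.card_fi23] at h
  refine Nat.le_of_mul_le_mul_left ?_ (show 0 < 14856539443200 by decide +kernel)
  rw [show (14856539443200 * 275264 : ℕ) = 4089470473293004800 by decide +kernel, ← h]
  exact Nat.mul_le_mul_right _ card_kStab

/-- The three orbits as one index set. -/
noncomputable def cosetMap : (Unit ⊕ Fin 31671) ⊕ (Spor.Fi23 ⧸ kStab) → Spor.Fi24 ⧸ hTop
  | Sum.inl (Sum.inl _) => QuotientGroup.mk 1
  | Sum.inl (Sum.inr c) => QuotientGroup.mk (iota (FiThree.exists_pt c.2).choose * g1)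
  | Sum.inr q => QuotientGroup.mk (iota q.out * gg 10)

theorem cosetMap_surjective : Function.Surjective cosetMap := by
  intro q
  induction q using QuotientGroup.induction_on with
  | _ x =>
    rcases inU_all x with hx | ⟨u, hx⟩ | ⟨u, hx⟩
    · exact ⟨Sum.inl (Sum.inl ()), QuotientGroup.eq.2 (by rwa [inv_one, one_mul])⟩
    · refine ⟨Sum.inl (Sum.inr ⟨FiThree.pt u, FiThree.pt_lt u⟩), QuotientGroup.eq.2 ?_⟩
      have hs := (FiThree.exists_pt (FiThree.pt_lt u)).choose_spec
      rw [show (iota (FiThree.exists_pt (FiThree.pt_lt u)).choose * g1)⁻¹ * x =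
        ((iota (FiThree.exists_pt (FiThree.pt_lt u)).choose * g1)⁻¹ * (iota u * g1)) * ((iota u * g1)⁻¹ * x) by group]
      exact mul_mem (same_pt hs) hx
    · refine ⟨Sum.inr (QuotientGroup.mk u), QuotientGroup.eq.2 ?_⟩
      have hm : (QuotientGroup.mk u : Spor.Fi23 ⧸ kStab).out⁻¹ * u ∈ kStab :=
        QuotientGroup.eq.1 (QuotientGroup.out_eq' _)
      obtain ⟨h, hh, e⟩ := hm
      rw [show (iota (QuotientGroup.mk u : Spor.Fi23 ⧸ kStab).out * gg 10)⁻¹ * x =
        ((gg 10)⁻¹ * iota ((QuotientGroup.mk u : Spor.Fi23 ⧸ kStab).out⁻¹ * u) * gg 10) * ((iota u * gg 10)⁻¹ * x) by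
          rw [map_mul, map_inv]; group, ← e]
      refine mul_mem ?_ hx
      show (gg 10)⁻¹ * (gg 10 * h * (gg 10)⁻¹) * gg 10 ∈ hTop
      rwa [show (gg 10)⁻¹ * (gg 10 * h * (gg 10)⁻¹) * gg 10 = h by group]

theorem index_top_le : Finite (Spor.Fi24 ⧸ hTop) ∧ Nat.card (Spor.Fi24 ⧸ hTop) ≤ 306936 := by
  refine ⟨Finite.of_surjective _ cosetMap_surjective, (Nat.card_le_card_of_surjective _ cosetMap_surjective).trans ?_⟩
  have := index_kStab
  rw [Subgroup.index_eq_card] at this
  simp only [Nat.card_sum, Nat.card_unique, Nat.card_fin]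
  omega

theorem card_hTop_le : Finite hTop ∧ Nat.card hTop ≤ 2 * 4089470473293004800 := by
  let F : Spor.Fi23 × Bool → hTop := fun p =>
    ⟨if p.2 then iota p.1 * gg 11 else iota p.1, by
      cases p.2
      · exact iota_mem _
      · exact mul_mem (iota_mem _) (gg_mem (by decide))⟩
  have hF : Function.Surjective F := by
    rintro ⟨h, hh⟩
    obtain ⟨u, hu | hu⟩ := hTop_elem hh
    · exact ⟨(u, false), Subtype.ext hu.symm⟩
    · exact ⟨(u, true), Subtype.ext hu.symm⟩
  refine ⟨Finite.of_surjective _ hF, (Nat.card_le_card_of_surjective _ hF).trans (le_of_eq ?_)⟩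
  rw [Nat.card_prod, FiThree.card_fi23, Nat.card_eq_fintype_card (α := Bool), Fintype.card_bool, Nat.mul_comm]

end CfsgLib.Recog.FiFour
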