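import Cfsg.Agent.Lib.Recog.FiFour.Net0
import Cfsg.Agent.Lib.Recog.FiFour.Net1
import Cfsg.Agent.Lib.Recog.FiFour.Net2
import Cfsg.Agent.Lib.Recog.FiFour.Net3
import Cfsg.Agent.Lib.Recog.FiFour.Net4
import Cfsg.Agent.Lib.Recog.FiFour.Net5
import Cfsg.Agent.Lib.Recog.FiFour.Net6
import Cfsg.Agent.Lib.Recog.FiFour.Net7
import Cfsg.Agent.Lib.Recog.FiFour.Net8
import Cfsg.Agent.Lib.Recog.FiFour.Net9
import Cfsg.Agent.Lib.Recog.FiFour.Net10
import Cfsg.Agent.Lib.Recog.FiFour.Net11
import Cfsg.Agent.Lib.Recog.BitPerm.Group
import Cfsg.Prelude.Def_Spor_Fi24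

set_option autoImplicit false
set_option maxRecDepth 20000

/-! Networks of the twelve generators (owner: helper21). -/

namespace CfsgLib.Recog.FiFour
open CfsgLib.Recog.BitPerm

/-- The networks of `a b c d e f g h i j k l`. -/
noncomputable def net (x : ℕ) : List Stage :=
  [net0, net1, net2, net3, net4, net5, net6, net7, net8, net9, net10, net11].getD x []

open CfsgLib.ThreeTrans.CosetIndex (forallFrom) in
/-- A word fixes some of the bit planes. -/
noncomputable def idFrom (w : List ℕ) (lo len : ℕ) : Bool :=
  forallFrom (fun r => Nat.beq (runWord net w (plane r 19)) (plane r 19)) lo len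

/-- The number of points. -/
@[irreducible] def numPts : ℕ := 306936

theorem numPts_eq : numPts = 306936 := by unfold numPts; rfl

/-- All letters as words. -/
def allWords : List (List ℕ) := (List.range 12).map fun x => [x]

/-- The orbit of the base point. -/
noncomputable def allOrbit : ℕ := orbitSet net allWords 0 10

end CfsgLib.Recog.FiFour
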