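import Cfsg.Agent.Lib.Recog.FiFour.Action
import Cfsg.Agent.S1691

set_option autoImplicit false
set_option maxRecDepth 20000
set_option linter.style.haveILetI false

/-!
The derived subgroup of Fi24 is simple (owner: helper21).
-/

namespace CfsgLib.Recog.FiFour

open Cfsg CfsgLib.Recog.BitPerm CfsgLib.Recog.SporBound CfsgLib.ThreeTrans.CosetIndex
open CfsgLib.Recog.FiThree (InDouble)

attribute [local instance] FiThree.finite_fi23' finite_fi24

theorem rels_even : ((relWords Spor.Fi24.edges Spor.Fi24.extra gens24).all fun w => w.length % 2 == 0) = true := by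
  decide +kernel

/-- The parity. -/
noncomputable def parity : Spor.Fi24 →* Multiplicative (ZMod 2) :=
  PresentedGroup.toGroup (f := fun _ => Multiplicative.ofAdd (1 : ZMod 2)) (by
    intro r hr
    have hsq : Multiplicative.ofAdd (1 : ZMod 2) * Multiplicative.ofAdd (1 : ZMod 2) = 1 := by decide
    rw [hom_eq_prod gens24 _ (fun _ => Multiplicative.ofAdd (1 : ZMod 2)) (fun y => FreeGroup.lift_apply_of) (fun _ => hsq),
      List.map_const', List.prod_replicate]
    have hw : letters gens24 r ∈ relWords Spor.Fi24.edges Spor.Fi24.extra gens24 := by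
      rw [relWords, List.mem_append]
      rcases hr with ⟨x, hx, y, hy, rfl⟩ | hr
      · exact Or.inl (List.mem_flatMap.2 ⟨x, hx, List.mem_map.2 ⟨y, hy, rfl⟩⟩)
      · exact Or.inr (List.mem_map.2 ⟨r, hr, rfl⟩)
    have h := List.all_eq_true.1 rels_even _ hw
    rw [beq_iff_eq] at h
    obtain ⟨m, hm⟩ := Nat.dvd_of_mod_eq_zero h
    rw [hm, pow_mul, pow_two, hsq, one_pow])

theorem parity_gg {x : ℕ} (hx : x < 12) : parity (gg x) = Multiplicative.ofAdd (1 : ZMod 2) := by
  have hlen : x < gens24.length := hx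
  unfold gg gen
  rw [List.getElem?_eq_getElem hlen]
  show parity (PresentedGroup.of gens24[x]) = _
  rw [parity, PresentedGroup.toGroup.of]

theorem derived_eq : commutator Spor.Fi24 = parity.ker := by
  refine Subgroup.eq_of_le_of_card_ge (Abelianization.commutator_subset_ker parity) ?_
  have h1 := Subgroup.card_mul_index (commutator Spor.Fi24)
  have h2 := Subgroup.card_mul_index parity.ker
  rw [Cfsg.Agent.S1691.result] at h1
  have h3 : parity.ker.index = 2 := by
    rw [Subgroup.index_ker, show parity.range = ⊤ from MonoidHom.range_eq_top.2 fun z => ?_]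
    · simp
    · rcases (show z = 1 ∨ z = Multiplicative.ofAdd 1 by revert z; decide) with rfl | rfl
      · exact ⟨1, map_one _⟩
      · exact ⟨gg 0, parity_gg (by decide)⟩
  rw [h3] at h2
  omega

theorem parity_even {w : List ℕ} (hw : w.all (· < 12) = true) (he : w.length % 2 = 0) : word w ∈ parity.ker := by
  rw [MonoidHom.mem_ker, map_list_prod, List.map_map]
  have : List.map (parity ∘ gg) w = List.replicate w.length (Multiplicative.ofAdd (1 : ZMod 2)) := by
    rw [← List.map_const' (l := w)]
    exact List.map_congr_left fun x hx => parity_gg (by simpa using List.all_eq_true.1 hw x hx)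
  rw [this, List.prod_replicate]
  obtain ⟨m, hm⟩ := Nat.dvd_of_mod_eq_zero he
  rw [hm, pow_mul, show (Multiplicative.ofAdd (1 : ZMod 2)) ^ 2 = 1 by decide, one_pow]

theorem parity_iota (u : Spor.Fi23) : iota u ∈ parity.ker := by
  have hu : u ∈ Subgroup.closure (Set.range FiThree.gg) := by
    rw [SporBound.closure_gen FiThree.nodes]; exact Subgroup.mem_top u
  induction hu using Subgroup.closure_induction with
  | mem g hg =>
    obtain ⟨x, rfl⟩ := hg
    by_cases hx : x < 10
    · rw [iota_gg hx, MonoidHom.mem_ker, map_mul, parity_gg (by omega), parity_gg (by decide)]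
      decide
    · rw [FiThree.gg_big (by omega), map_one]; exact one_mem _
  | one => rw [map_one]; exact one_mem _
  | mul g g' _ _ i1 i2 => rw [map_mul]; exact mul_mem i1 i2
  | inv g _ i1 => rw [map_inv]; exact inv_mem i1

theorem parity_g1 : g1 ∈ parity.ker := parity_even (by decide +kernel) (by decide +kernel)

theorem parity_kl : gg 10 * gg 11 ∈ parity.ker := by
  rw [MonoidHom.mem_ker, map_mul, parity_gg (by decide), parity_gg (by decide)]
  decide

theorem even_mem_range {h : Spor.Fi24} (hh : h ∈ hTop) (he : h ∈ parity.ker) : h ∈ iota.range := by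
  obtain ⟨u, rfl | rfl⟩ := hTop_elem hh
  · exact ⟨u, rfl⟩
  · exfalso
    rw [MonoidHom.mem_ker, map_mul, MonoidHom.mem_ker.1 (parity_iota u), one_mul, parity_gg (by decide)] at he
    exact absurd he (by decide)

/-- The even part of the point stabiliser inside the even subgroup. -/
noncomputable def kK : Subgroup parity.ker := iota.range.subgroupOf parity.ker

theorem mem_kK {x : parity.ker} (h : (x : Spor.Fi24) ∈ hTop) : x ∈ kK :=
  Subgroup.mem_subgroupOf.2 (even_mem_range h x.2)

/-- `g1` as an even element. -/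
noncomputable def xOne : parity.ker := ⟨g1, parity_g1⟩

/-- `k * l` as an even element. -/
noncomputable def yOne : parity.ker := ⟨gg 10 * gg 11, parity_kl⟩

/-- An element of Fi23 as an even element. -/
noncomputable def emb (u : Spor.Fi23) : parity.ker := ⟨iota u, parity_iota u⟩

theorem emb_mem (u : Spor.Fi23) : emb u ∈ kK := Subgroup.mem_subgroupOf.2 ⟨u, rfl⟩

theorem dec_even (g : parity.ker) : g ∈ kK ∨ InDouble kK xOne g ∨ InDouble kK yOne g := by
  rcases inU_all (g : Spor.Fi24) with h | ⟨u, h⟩ | ⟨u, h⟩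
  · exact Or.inl (mem_kK h)
  · exact Or.inr (Or.inl ⟨emb u, emb_mem u, mem_kK h⟩)
  · refine Or.inr (Or.inr ⟨emb u, emb_mem u, mem_kK ?_⟩)
    show (iota u * (gg 10 * gg 11))⁻¹ * (g : Spor.Fi24) ∈ hTop
    rw [show (iota u * (gg 10 * gg 11))⁻¹ * (g : Spor.Fi24) = (gg 11)⁻¹ * ((iota u * gg 10)⁻¹ * g) by group]
    exact mul_mem (inv_mem (gg_mem (by decide))) h

theorem a_witness : ∃ v u, (iota u * gg 10)⁻¹ * (g1 * iota v * g1) ∈ hTop := by
  have hw := wit_mem (List.all_eq_true.1 a_wit 1 (by decide))
  have hl := List.all_eq_true.1 rep_letters (aReps.getD 1 ⟨0, 0, [], 0, []⟩) (by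
    rw [List.getD_eq_getElem _ _ (by decide)]
    exact List.mem_append_left _ (List.getElem_mem _))
  simp only [Bool.and_eq_true] at hl
  rw [repW, word_append, word_append, word_append, word_reverse, target, if_neg (by decide), if_neg (by decide),
    word_append, ← iota_word hl.2, ← iota_word hl.1, word_singleton, g_ga, ga_iota] at hw
  refine ⟨FiThree.word (aReps.getD 1 ⟨0, 0, [], 0, []⟩).word,
    (FiThree.word FiThree.ga)⁻¹ * FiThree.word (aReps.getD 1 ⟨0, 0, [], 0, []⟩).tgt, ?_⟩
  convert hw using 1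
  rw [map_mul, map_inv]
  group

theorem b_witness : ∃ v u, (iota u * gg 10)⁻¹ * (gg 10 * iota v * g1) ∈ hTop := by
  have hw := wit_mem (List.all_eq_true.1 b_wit 1 (by decide))
  have hl := List.all_eq_true.1 rep_letters (bReps.getD 1 ⟨0, 0, [], 0, []⟩) (by
    rw [List.getD_eq_getElem _ _ (by decide)]
    exact List.mem_append_right _ (List.getElem_mem _))
  simp only [Bool.and_eq_true] at hl
  rw [repW, word_append, word_append, word_append, word_reverse, target, if_neg (by decide), if_neg (by decide),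
    word_append, ← iota_word hl.2, ← iota_word hl.1, word_singleton] at hw
  refine ⟨FiThree.word (bReps.getD 1 ⟨0, 0, [], 0, []⟩).word, FiThree.word (bReps.getD 1 ⟨0, 0, [], 0, []⟩).tgt, ?_⟩
  convert hw using 1
  group

theorem kK_maximal {C : Subgroup parity.ker} (hKC : kK ≤ C) : C = kK ∨ C = ⊤ := by
  by_cases hle : C ≤ kK
  · exact Or.inl (le_antisymm hle hKC)
  obtain ⟨g, hg, hgK⟩ := SetLike.not_le_iff_exists.1 hle
  have hy_of_x : xOne ∈ C → yOne ∈ C := by
    intro hx
    obtain ⟨v, u, h⟩ := a_witness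
    refine FiThree.mem_of_inDouble hKC (x := yOne) (g := xOne * emb v * xOne) ⟨emb u, emb_mem u, mem_kK ?_⟩
      (mul_mem (mul_mem hx (hKC (emb_mem v))) hx)
    show (iota u * (gg 10 * gg 11))⁻¹ * (g1 * iota v * g1) ∈ hTop
    rw [show (iota u * (gg 10 * gg 11))⁻¹ * (g1 * iota v * g1) =
      (gg 11)⁻¹ * ((iota u * gg 10)⁻¹ * (g1 * iota v * g1)) by group]
    exact mul_mem (inv_mem (gg_mem (by decide))) h
  have hx_of_y : yOne ∈ C → xOne ∈ C := by
    intro hy
    obtain ⟨v, u, h⟩ := b_witness
    -- `g1` lies in the coset of a product made from `k * l`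
    set p : parity.ker := (emb v)⁻¹ * yOne⁻¹ * emb u * yOne with hp
    have hpC : p ∈ C := mul_mem (mul_mem (mul_mem (inv_mem (hKC (emb_mem v))) (inv_mem hy)) (hKC (emb_mem u))) hy
    have hq : p⁻¹ * xOne ∈ kK := by
      refine mem_kK ?_
      show ((iota v)⁻¹ * (gg 10 * gg 11)⁻¹ * iota u * (gg 10 * gg 11))⁻¹ * g1 ∈ hTop
      have c1 := l_comm_h (iota_mem v)
      have key : ((iota v)⁻¹ * (gg 10 * gg 11)⁻¹ * iota u * (gg 10 * gg 11))⁻¹ * g1 =
          (gg 11)⁻¹ * ((iota u * gg 10)⁻¹ * (gg 10 * iota v * g1)) * (g1⁻¹ * gg 11 * g1) := by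
        calc ((iota v)⁻¹ * (gg 10 * gg 11)⁻¹ * iota u * (gg 10 * gg 11))⁻¹ * g1
            = (gg 11)⁻¹ * (iota u * gg 10)⁻¹ * gg 10 * (gg 11 * iota v) * g1 := by group
          _ = _ := by rw [← c1]; group
      rw [key]
      exact mul_mem (mul_mem (inv_mem (gg_mem (by decide))) h) l_fix
    have := mul_mem hpC (hKC hq)
    rwa [mul_inv_cancel_left] at this
  obtain ⟨hx, hy⟩ : xOne ∈ C ∧ yOne ∈ C := by
    rcases (dec_even g).resolve_left hgK with hd | hd
    · have hx := FiThree.mem_of_inDouble hKC hd hg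
      exact ⟨hx, hy_of_x hx⟩
    · have hy := FiThree.mem_of_inDouble hKC hd hg
      exact ⟨hx_of_y hy, hy⟩
  refine Or.inr (eq_top_iff.2 fun w _ => ?_)
  rcases dec_even w with hw | hw | hw
  · exact hKC hw
  · exact FiThree.inDouble_mem hKC hw hx
  · exact FiThree.inDouble_mem hKC hw hy

theorem kK_equiv : Nonempty (kK ≃* Spor.Fi23) :=
  ⟨((Subgroup.subgroupOfEquivOfLe (show iota.range ≤ parity.ker by rintro _ ⟨u, rfl⟩; exact parity_iota u)).trans
    (MonoidHom.ofInjective iota_injective).symm)⟩

theorem card_even : Nat.card parity.ker = 1255205709190661721292800 := by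
  have h1 := Subgroup.card_mul_index (commutator Spor.Fi24)
  rw [Cfsg.Agent.S1691.result, card_fi24, derived_eq] at h1
  omega

theorem card_kK : Nat.card kK = 4089470473293004800 := by
  obtain ⟨e⟩ := kK_equiv
  exact (Nat.card_congr e.toEquiv).trans FiThree.card_fi23

theorem kK_ne_top : kK ≠ ⊤ := fun h => by
  have := card_kK
  rw [h, Subgroup.card_top, card_even] at this
  omega

theorem kK_not_normal : ¬ kK.Normal := by
  intro hn
  have hm := moves
  simp only [Bool.and_eq_true, Bool.not_eq_true'] at hm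
  -- normality makes the stabiliser fix the point of `k`
  have h := hn.conj_mem (emb (FiThree.gg 1)) (emb_mem _) yOne⁻¹
  have hfix : act (((gg 10 * gg 11)⁻¹ * iota (FiThree.gg 1) * (gg 10 * gg 11)⁻¹⁻¹ : Spor.Fi24)) 0 = 0 := by
    obtain ⟨u, hu⟩ := Subgroup.mem_subgroupOf.1 h
    refine top_fix ?_
    rw [show ((gg 10 * gg 11)⁻¹ * iota (FiThree.gg 1) * (gg 10 * gg 11)⁻¹⁻¹ : Spor.Fi24) = iota u from hu.symm]
    exact iota_mem u
  rw [inv_inv, map_mul, map_mul, map_inv, Equiv.Perm.mul_apply, Equiv.Perm.mul_apply, Equiv.Perm.inv_eq_iff_eq] at hfix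
  have hp : act (gg 10 * gg 11) 0 = act (gg 10) 0 := by
    rw [map_mul, Equiv.Perm.mul_apply, top_fix (gg_mem (by decide))]
  rw [hp, ← word_singleton 10, act_maps k_point, iota_gg (by decide)] at hfix
  have h2 := act_maps hm.1
  rw [show word [1, 11] = gg 1 * gg 11 by simp [word], hfix] at h2
  rw [← h2, Nat.beq_refl] at hm
  exact Bool.noConfusion hm.2

theorem isSimple_even : IsSimpleGroup parity.ker := by
  haveI := FiThree.isSimple_fi23
  obtain ⟨e⟩ := kK_equiv
  haveI : Nontrivial kK := e.toEquiv.nontrivial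
  haveI : IsSimpleGroup kK := IsSimpleGroup.isSimpleGroup_of_surjective e.symm.toMonoidHom e.symm.surjective
  haveI : Nontrivial parity.ker := Finite.one_lt_card_iff_nontrivial.1 (by rw [card_even]; omega)
  refine ⟨fun N hN => ?_⟩
  rcases (inferInstance : IsSimpleGroup kK).eq_bot_or_eq_top_of_normal (N.subgroupOf kK) (hN.subgroupOf _) with h | h
  · rcases kK_maximal (show kK ≤ kK ⊔ N from le_sup_left) with h' | h'
    · left
      have hNK : N ≤ kK := h' ▸ le_sup_right
      rw [Subgroup.subgroupOf_eq_bot] at h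
      exact h.eq_bot_of_le hNK
    · exfalso
      rw [Subgroup.subgroupOf_eq_bot] at h
      have hc : N.IsComplement' kK := Subgroup.isComplement'_of_disjoint_and_mul_eq_univ h (by
        rw [← Subgroup.normal_mul, sup_comm, h']; rfl)
      have hcard : Nat.card N = 306936 := by
        have := hc.card_mul
        rw [card_kK, card_even] at this
        omega
      have key : ∀ (z : parity.ker) (n n' : N), InDouble kK z (n : parity.ker) → InDouble kK z (n' : parity.ker) →
          orderOf n = orderOf n' := by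
        rintro z ⟨n, hn⟩ ⟨n', hn'⟩ ⟨a, ha, hb⟩ ⟨a', ha', hb'⟩
        set b := (a * z)⁻¹ * n
        set b' := (a' * z)⁻¹ * n'
        set c := a' * a⁻¹
        have e1 : n' = (c * n * c⁻¹) * (c * b⁻¹ * b') := by
          simp only [b, b', c]; group
        have hcn : c * n * c⁻¹ ∈ N := hN.conj_mem n hn c
        have hk : c * b⁻¹ * b' ∈ N ⊓ kK := by
          refine ⟨?_, kK.mul_mem (kK.mul_mem (kK.mul_mem ha' (kK.inv_mem ha)) (kK.inv_mem hb)) hb'⟩
          have := mul_mem (inv_mem hcn) hn'
          rwa [e1, inv_mul_cancel_left] at this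
        rw [disjoint_iff.1 h, Subgroup.mem_bot] at hk
        rw [hk, mul_one] at e1
        refine (Subgroup.orderOf_coe (⟨n, hn⟩ : N)).symm.trans (Eq.trans ?_ (Subgroup.orderOf_coe (⟨n', hn'⟩ : N)))
        show orderOf n = orderOf n'
        rw [e1, ← MulAut.conj_apply]
        exact (orderOf_injective (MulAut.conj c).toMonoidHom (MulAut.conj c).injective n).symm
      haveI : Fact (Nat.Prime 2) := ⟨Nat.prime_two⟩
      haveI : Fact (Nat.Prime 3) := ⟨Nat.prime_three⟩
      haveI : Fact (Nat.Prime 7) := ⟨by decide⟩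
      obtain ⟨n2, h2⟩ := exists_prime_orderOf_dvd_card' (G := N) 2 (by rw [hcard]; decide)
      obtain ⟨n3, h3⟩ := exists_prime_orderOf_dvd_card' (G := N) 3 (by rw [hcard]; decide)
      obtain ⟨n7, h7⟩ := exists_prime_orderOf_dvd_card' (G := N) 7 (by rw [hcard]; decide)
      have hout : ∀ n : N, orderOf n ≠ 1 → InDouble kK xOne (n : parity.ker) ∨ InDouble kK yOne (n : parity.ker) := by
        intro n hn
        refine (dec_even _).resolve_left fun hk => hn ?_
        have : (n : parity.ker) ∈ N ⊓ kK := ⟨n.2, hk⟩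
        rw [disjoint_iff.1 h, Subgroup.mem_bot] at this
        rw [show n = 1 from Subtype.ext this, orderOf_one]
      rcases hout n2 (by omega) with a2 | a2 <;> rcases hout n3 (by omega) with a3 | a3 <;>
        rcases hout n7 (by omega) with a7 | a7
      all_goals
        first
        | (have := key _ _ _ a2 a3; omega)
        | (have := key _ _ _ a2 a7; omega)
        | (have := key _ _ _ a3 a7; omega)
  · have hKN : kK ≤ N := Subgroup.subgroupOf_eq_top.1 h
    rcases kK_maximal hKN with h' | h'
    · exact absurd (h' ▸ hN) kK_not_normal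
    · exact Or.inr h'

theorem isFi24_derived : IsFi24' Spor.Fi24' := by
  have h : IsFi24' parity.ker := ⟨isSimple_even, card_even⟩
  show IsFi24' (commutator Spor.Fi24)
  rw [derived_eq]
  exact h

end CfsgLib.Recog.FiFour
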