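import Cfsg.Agent.Lib.Recog.FiFour.Nets
import Cfsg.Agent.Lib.ThreeTrans.CosetIndex.Presented

set_option autoImplicit false
set_option maxRecDepth 20000

/-! Relator checks on 306936 points (owner: helper21). -/

namespace CfsgLib.Recog.FiFour
open CfsgLib.Recog.BitPerm CfsgLib.ThreeTrans.CosetIndex

theorem nets_ok : netsOK 19 12 net = true := by decide +kernel

theorem fix_base : ([0, 1, 2, 3, 4, 5, 6, 7, 8, 9, 11].all fun x => mapsOK net [x] 0 0) = true := by decide +kernel

theorem all_cover : Nat.beq allOrbit (2 ^ numPts - 1) = true := by unfold numPts; decide +kernel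

theorem k_point : mapsOK net [10] 0 1 = true := by decide +kernel

theorem moves : (mapsOK net [1, 11] 1 3 && !Nat.beq 3 1) = true := by decide +kernel

theorem l_moves : (mapsOK net [11] 1 3 && !Nat.beq 3 1) = true := by decide +kernel

end CfsgLib.Recog.FiFour
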