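import Cfsg.Agent.Lib.Recog.FiFour.Nets

set_option autoImplicit false
set_option maxRecDepth 20000

/-! Relator checks on 306936 points (owner: helper21). -/

namespace CfsgLib.Recog.FiFour

/-- The pair relators. -/
def pairParts : List (List (List ℕ)) := [
  [[0, 0], [0, 1, 0, 1, 0, 1], [0, 2, 0, 2], [0, 3, 0, 3], [0, 4, 0, 4], [0, 5, 0, 5]],
  [[0, 6, 0, 6], [0, 7, 0, 7], [0, 8, 0, 8], [0, 9, 0, 9], [0, 10, 0, 10, 0, 10]],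
  [[0, 11, 0, 11], [1, 1], [1, 2, 1, 2, 1, 2], [1, 3, 1, 3], [1, 4, 1, 4], [1, 5, 1, 5]],
  [[1, 6, 1, 6], [1, 7, 1, 7], [1, 8, 1, 8], [1, 9, 1, 9], [1, 10, 1, 10], [1, 11, 1, 11]],
  [[2, 2], [2, 3, 2, 3, 2, 3], [2, 4, 2, 4], [2, 5, 2, 5], [2, 6, 2, 6], [2, 7, 2, 7]],
  [[2, 8, 2, 8], [2, 9, 2, 9], [2, 10, 2, 10], [2, 11, 2, 11], [3, 3], [3, 4, 3, 4, 3, 4]],
  [[3, 5, 3, 5], [3, 6, 3, 6], [3, 7, 3, 7, 3, 7], [3, 8, 3, 8], [3, 9, 3, 9]],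
  [[3, 10, 3, 10], [3, 11, 3, 11], [4, 4], [4, 5, 4, 5, 4, 5], [4, 6, 4, 6], [4, 7, 4, 7]],
  [[4, 8, 4, 8], [4, 9, 4, 9], [4, 10, 4, 10], [4, 11, 4, 11], [5, 5], [5, 6, 5, 6, 5, 6]],
  [[5, 7, 5, 7], [5, 8, 5, 8], [5, 9, 5, 9], [5, 10, 5, 10], [5, 11, 5, 11], [6, 6]],
  [[6, 7, 6, 7], [6, 8, 6, 8], [6, 9, 6, 9, 6, 9], [6, 10, 6, 10], [6, 11, 6, 11]],
  [[7, 7], [7, 8, 7, 8, 7, 8], [7, 9, 7, 9], [7, 10, 7, 10], [7, 11, 7, 11], [8, 8]],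
  [[8, 9, 8, 9], [8, 10, 8, 10], [8, 11, 8, 11], [9, 9], [9, 10, 9, 10], [9, 11, 9, 11]],
  [[10, 10], [10, 11, 10, 11, 10, 11], [11, 11]]]

/-- The seventh parabolic relator. -/
def sevenRel : List ℕ := [11, 7, 5, 4, 3, 2, 1, 0, 7, 5, 4, 3, 2, 1, 0, 7, 5, 4, 3, 2, 1, 0, 7, 5, 4, 3, 2, 1, 0, 7, 5, 4, 3, 2, 1, 0, 7, 5, 4, 3, 2, 1, 0, 7, 5, 4, 3, 2, 1, 0, 7, 5, 4, 3, 2, 1, 0, 7, 5, 4, 3, 2, 1, 0]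

/-- The relator killing the centre. -/
def centreRel : List ℕ := [3, 2, 1, 0, 10, 11, 3, 4, 5, 6, 9, 3, 7, 8, 3, 2, 1, 0, 10, 11, 3, 4, 5, 6, 9, 3, 7, 8, 3, 2, 1, 0, 10, 11, 3, 4, 5, 6, 9, 3, 7, 8, 3, 2, 1, 0, 10, 11, 3, 4, 5, 6, 9, 3, 7, 8, 3, 2, 1, 0, 10, 11, 3, 4, 5, 6, 9, 3, 7, 8, 3, 2, 1, 0, 10, 11, 3, 4, 5, 6, 9, 3, 7, 8, 3, 2, 1, 0, 10, 11, 3, 4, 5, 6, 9, 3, 7, 8, 3, 2, 1, 0, 10, 11, 3, 4, 5, 6, 9, 3, 7, 8, 3, 2, 1, 0, 10, 11, 3, 4, 5, 6, 9, 3, 7, 8, 3, 2, 1, 0, 10, 11, 3, 4, 5, 6, 9, 3, 7, 8, 3, 2, 1, 0, 10, 11, 3, 4, 5, 6, 9, 3, 7, 8, 3, 2, 1, 0, 10, 11, 3, 4, 5, 6, 9, 3, 7, 8, 3, 2, 1, 0, 10, 11, 3, 4, 5, 6, 9, 3, 7, 8, 3, 2, 1, 0, 10, 11, 3, 4, 5, 6, 9, 3, 7, 8, 3, 2, 1, 0, 10, 11, 3, 4, 5, 6, 9, 3, 7, 8, 3,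 2, 1, 0, 10, 11, 3, 4, 5, 6, 9, 3, 7, 8, 3, 2, 1, 0, 10, 11, 3, 4, 5, 6, 9, 3, 7, 8]

end CfsgLib.Recog.FiFour
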