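import Cfsg.Agent.Lib.Recog.FiFour.Rel0
import Cfsg.Agent.Lib.Recog.FiFour.Rel1
import Cfsg.Agent.Lib.Recog.FiFour.Rel2
import Cfsg.Agent.Lib.Recog.FiFour.Rel3
import Cfsg.Agent.Lib.Recog.FiFour.Rel4
import Cfsg.Agent.Lib.Recog.FiFour.Rel5
import Cfsg.Agent.Lib.Recog.FiFour.Rel6
import Cfsg.Agent.Lib.Recog.FiFour.Rel7
import Cfsg.Agent.Lib.Recog.FiFour.Rel8
import Cfsg.Agent.Lib.Recog.FiFour.Rel9
import Cfsg.Agent.Lib.Recog.FiFour.Rel10
import Cfsg.Agent.Lib.Recog.FiFour.Rel11
import Cfsg.Agent.Lib.Recog.FiFour.Rel12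
import Cfsg.Agent.Lib.Recog.FiFour.Rel13
import Cfsg.Agent.Lib.Recog.FiFour.Rel14
import Cfsg.Agent.Lib.Recog.FiFour.Rel15
import Cfsg.Agent.Lib.Recog.FiFour.Rel16
import Cfsg.Agent.Lib.Recog.FiFour.Rel17
import Cfsg.Agent.Lib.Recog.FiFour.Rel18
import Cfsg.Agent.Lib.Recog.FiFour.Rel19
import Cfsg.Agent.Lib.Recog.FiFour.Rel20
import Cfsg.Agent.Lib.Recog.FiFour.Rel21
import Cfsg.Agent.Lib.Recog.FiFour.Rel22
import Cfsg.Agent.Lib.Recog.FiFour.Rel23
import Cfsg.Agent.Lib.Recog.FiFour.Rel24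
import Cfsg.Agent.Lib.Recog.FiFour.Rel25
import Cfsg.Agent.Lib.Recog.FiFour.Rel26
import Cfsg.Agent.Lib.Recog.FiFour.Rel27
import Cfsg.Agent.Lib.Recog.FiFour.Rel28
import Cfsg.Agent.Lib.Recog.FiFour.Rel29
import Cfsg.Agent.Lib.Recog.FiFour.Rel30
import Cfsg.Agent.Lib.Recog.FiFour.Rel31
import Cfsg.Agent.Lib.Recog.FiFour.Rel32
import Cfsg.Agent.Lib.Recog.FiFour.Rel33
import Cfsg.Agent.Lib.Recog.FiFour.Rel34
import Cfsg.Agent.Lib.Recog.FiFour.Rel35
import Cfsg.Agent.Lib.Recog.FiFour.Rel36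
import Cfsg.Agent.Lib.Recog.FiFour.Rel37
import Cfsg.Agent.Lib.Recog.SporBound.Check

set_option autoImplicit false
set_option maxRecDepth 20000

/-! All relators fix all points (owner: helper21). -/

namespace CfsgLib.Recog.FiFour
open CfsgLib.Recog.BitPerm CfsgLib.Recog.SporBound

theorem seven_ok : idOK 19 net sevenRel = true := by
  have h0 : idFrom sevenRel 0 4 = true := rel14
  have h1 : idFrom sevenRel 0 8 = true := forallFrom_cat h0 rel15 rfl rfl
  have h2 : idFrom sevenRel 0 12 = true := forallFrom_cat h1 rel16 rfl rfl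
  have h3 : idFrom sevenRel 0 16 = true := forallFrom_cat h2 rel17 rfl rfl
  have h4 : idFrom sevenRel 0 19 = true := forallFrom_cat h3 rel18 rfl rfl
  exact h4

theorem centre_ok : idOK 19 net centreRel = true := by
  have h0 : idFrom centreRel 0 1 = true := rel19
  have h1 : idFrom centreRel 0 2 = true := forallFrom_cat h0 rel20 rfl rfl
  have h2 : idFrom centreRel 0 3 = true := forallFrom_cat h1 rel21 rfl rfl
  have h3 : idFrom centreRel 0 4 = true := forallFrom_cat h2 rel22 rfl rfl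
  have h4 : idFrom centreRel 0 5 = true := forallFrom_cat h3 rel23 rfl rfl
  have h5 : idFrom centreRel 0 6 = true := forallFrom_cat h4 rel24 rfl rfl
  have h6 : idFrom centreRel 0 7 = true := forallFrom_cat h5 rel25 rfl rfl
  have h7 : idFrom centreRel 0 8 = true := forallFrom_cat h6 rel26 rfl rfl
  have h8 : idFrom centreRel 0 9 = true := forallFrom_cat h7 rel27 rfl rfl
  have h9 : idFrom centreRel 0 10 = true := forallFrom_cat h8 rel28 rfl rfl
  have h10 : idFrom centreRel 0 11 = true := forallFrom_cat h9 rel29 rfl rfl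
  have h11 : idFrom centreRel 0 12 = true := forallFrom_cat h10 rel30 rfl rfl
  have h12 : idFrom centreRel 0 13 = true := forallFrom_cat h11 rel31 rfl rfl
  have h13 : idFrom centreRel 0 14 = true := forallFrom_cat h12 rel32 rfl rfl
  have h14 : idFrom centreRel 0 15 = true := forallFrom_cat h13 rel33 rfl rfl
  have h15 : idFrom centreRel 0 16 = true := forallFrom_cat h14 rel34 rfl rfl
  have h16 : idFrom centreRel 0 17 = true := forallFrom_cat h15 rel35 rfl rfl
  have h17 : idFrom centreRel 0 18 = true := forallFrom_cat h16 rel36 rfl rfl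
  have h18 : idFrom centreRel 0 19 = true := forallFrom_cat h17 rel37 rfl rfl
  exact h18

theorem pairs_ok : ∀ w ∈ pairParts.flatten, idOK 19 net w = true := by
  intro w hw
  obtain ⟨p, hp, hw⟩ := List.mem_flatten.1 hw
  simp only [pairParts, List.mem_cons, List.not_mem_nil, or_false] at hp
  rcases hp with rfl | rfl | rfl | rfl | rfl | rfl | rfl | rfl | rfl | rfl | rfl | rfl | rfl | rfl
  · exact List.all_eq_true.1 rel0 w hw
  · exact List.all_eq_true.1 rel1 w hw
  · exact List.all_eq_true.1 rel2 w hw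
  · exact List.all_eq_true.1 rel3 w hw
  · exact List.all_eq_true.1 rel4 w hw
  · exact List.all_eq_true.1 rel5 w hw
  · exact List.all_eq_true.1 rel6 w hw
  · exact List.all_eq_true.1 rel7 w hw
  · exact List.all_eq_true.1 rel8 w hw
  · exact List.all_eq_true.1 rel9 w hw
  · exact List.all_eq_true.1 rel10 w hw
  · exact List.all_eq_true.1 rel11 w hw
  · exact List.all_eq_true.1 rel12 w hw
  · exact List.all_eq_true.1 rel13 w hw

end CfsgLib.Recog.FiFour
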