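import Cfsg.Agent.Lib.Recog.FiFour.Bound
import Cfsg.Agent.Lib.Recog.FiFour.RelAll
import Cfsg.Agent.Lib.Recog.FiFour.CheckPoints

set_option autoImplicit false
set_option maxRecDepth 20000
set_option linter.style.haveILetI false

/-!
Fi24 acts transitively on 306936 points: index and order (owner: helper21).
-/

namespace CfsgLib.Recog.FiFour

open Cfsg CfsgLib.Recog.BitPerm CfsgLib.Recog.SporBound CfsgLib.ThreeTrans.CosetIndex

attribute [local instance] FiThree.finite_fi23'

theorem netValid : Valid 19 net := Valid.of_check nets_ok fun x hx => by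
  show ([net0, net1, net2, net3, net4, net5, net6, net7, net8, net9, net10, net11] : List (List Stage)).getD x [] = []
  exact List.getD_eq_default _ _ (by simpa using hx)

/-- The relators that are checked. -/
def checkedRels : List (List ℕ) := pairParts.flatten ++ [sevenRel, centreRel]

theorem checked_one : ∀ w ∈ checkedRels, wordPerm net w = 1 := by
  intro w hw
  simp only [checkedRels, List.mem_append, List.mem_cons, List.not_mem_nil, or_false] at hw
  rcases hw with hw | rfl | rfl
  · exact wordPerm_eq_one netValid (pairs_ok w hw)
  · exact wordPerm_eq_one netValid seven_ok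
  · exact wordPerm_eq_one netValid centre_ok

theorem rels_rot : ((relWords Spor.Fi24.edges Spor.Fi24.extra gens24).all fun w => rotMem checkedRels w) = true := by
  decide +kernel

theorem squares : ∀ x, netPerm (net x) * netPerm (net x) = 1 := by
  intro x
  by_cases hx : x < 12
  · have h := checked_one [x, x] (List.contains_iff_mem.1
      ((show ∀ y < 12, checkedRels.contains [y, y] = true by decide +kernel) x hx))
    simpa [wordPerm] using h
  · have : net x = [] := by
      show ([net0, net1, net2, net3, net4, net5, net6, net7, net8, net9, net10, net11] : List (List Stage)).getD x [] = []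
      exact List.getD_eq_default _ _ (by simp; omega)
    rw [this]; rfl

/-- The action. -/
noncomputable def act : Spor.Fi24 →* Equiv.Perm ℕ :=
  PresentedGroup.toGroup (f := fun y => netPerm (net (gens24.idxOf y))) (by
    intro r hr
    rw [hom_eq_prod gens24 _ (fun x => netPerm (net x)) (fun y => FreeGroup.lift_apply_of) squares]
    refine prod_rotMem _ (List.all_eq_true.1 rels_rot _ ?_) checked_one
    rw [relWords, List.mem_append]
    rcases hr with ⟨x, hx, y, hy, rfl⟩ | hr
    · exact Or.inl (List.mem_flatMap.2 ⟨x, hx, List.mem_map.2 ⟨y, hy, rfl⟩⟩)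
    · exact Or.inr (List.mem_map.2 ⟨r, hr, rfl⟩))

theorem act_gg (x : ℕ) : act (gg x) = netPerm (net x) := by
  unfold gg gen
  by_cases hx : x < gens24.length
  · rw [List.getElem?_eq_getElem hx]
    show act (PresentedGroup.of gens24[x]) = _
    rw [act, PresentedGroup.toGroup.of, (show gens24.Nodup by decide).idxOf_getElem _ hx]
  · have : net x = [] := by
      show ([net0, net1, net2, net3, net4, net5, net6, net7, net8, net9, net10, net11] : List (List Stage)).getD x [] = []
      exact List.getD_eq_default _ _ (by simpa [gens24] using hx)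
    rw [List.getElem?_eq_none (by omega), this]
    exact map_one _

theorem act_word (w : List ℕ) : act (word w) = wordPerm net w := by
  rw [map_list_prod, List.map_map, wordPerm]
  exact congrArg List.prod (List.map_congr_left fun x _ => act_gg x)

theorem act_maps {w : List ℕ} {q p : ℕ} (h : mapsOK net w q p = true) : act (word w) q = p := by
  rw [act_word]; exact wordPerm_maps netValid h

theorem top_fix {h : Spor.Fi24} (hh : h ∈ hTop) : act h 0 = 0 := by
  induction hh using Subgroup.closure_induction with
  | mem g hg =>
    obtain ⟨x, hx, rfl⟩ := hg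
    show act (gg x) 0 = 0
    rw [← word_singleton]
    exact act_maps (List.all_eq_true.1 fix_base x hx)
  | one => rw [map_one]; rfl
  | mul g g' _ _ i1 i2 => rw [map_mul, Equiv.Perm.mul_apply, i2, i1]
  | inv g _ i1 => rw [map_inv, Equiv.Perm.inv_eq_iff_eq]; exact i1.symm

theorem exists_point {c : ℕ} (hc : c < numPts) : ∃ g : Spor.Fi24, act g 0 = c := by
  have key : ∀ n : ℕ, Nat.beq allOrbit (2 ^ n - 1) = true → c < n → allOrbit.testBit c = true := fun n h hn => by
    rw [Nat.eq_of_beq_eq_true h, Nat.testBit_two_pow_sub_one, decide_eq_true hn]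
  obtain ⟨-, ⟨g, rfl⟩, e⟩ := orbitSet_sub netValid (K := act.range) (fun w _ => ⟨word w, act_word w⟩) _ c
    (key numPts all_cover hc)
  exact ⟨g, e⟩

theorem index_hTop : hTop.index = 306936 := by
  obtain ⟨hfin, hle⟩ := index_top_le
  haveI := hfin
  refine le_antisymm hle ?_
  choose s hs using fun c : Fin numPts => exists_point c.2
  have hinj : Function.Injective fun c : Fin numPts => (QuotientGroup.mk (s c) : Spor.Fi24 ⧸ hTop) := by
    intro c c' e
    have h := QuotientGroup.eq.1 e
    refine Fin.ext ?_
    rw [← hs c, ← hs c']
    conv_rhs => rw [show s c' = s c * ((s c)⁻¹ * s c') by group, map_mul, Equiv.Perm.mul_apply, top_fix h]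
  have := Nat.card_le_card_of_injective _ hinj
  rw [Nat.card_fin, numPts_eq] at this
  rwa [Subgroup.index_eq_card]

theorem finite_fi24 : Finite Spor.Fi24 := by
  haveI := card_hTop_le.1
  haveI := index_top_le.1
  exact Finite.of_equiv _ (Subgroup.groupEquivQuotientProdSubgroup (s := hTop)).symm

attribute [local instance] finite_fi24

theorem iota_injective : Function.Injective iota := by
  haveI := FiThree.isSimple_fi23
  refine (MonoidHom.ker_eq_bot_iff _).1 ((IsSimpleGroup.eq_bot_or_eq_top_of_normal _ iota.normal_ker).resolve_right ?_)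
  intro h
  have hm := moves
  simp only [Bool.and_eq_true, Bool.not_eq_true'] at hm
  have e := MonoidHom.mem_ker.1 (h ▸ Subgroup.mem_top (FiThree.gg 1) : FiThree.gg 1 ∈ iota.ker)
  rw [iota_gg (by decide)] at e
  have h2 := act_maps hm.1
  rw [show word [1, 11] = gg 1 * gg 11 by simp [word], e, map_one act] at h2
  exact absurd h2 (by decide)

theorem l_notMem : gg 11 ∉ iota.range := by
  rintro ⟨u, hu⟩
  have hz : ∀ x < 10, FiThree.gg x * u = u * FiThree.gg x := fun x hx => iota_injective (by
    rw [map_mul, map_mul, hu]; exact l_comm_h (iota_mem _))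
  have h1 : gg 11 = 1 := by rw [← hu, FiThree.center_eq_one hz, map_one]
  have hm := l_moves
  simp only [Bool.and_eq_true, Bool.not_eq_true'] at hm
  have h2 := act_maps hm.1
  rw [word_singleton, h1, map_one act] at h2
  exact absurd h2 (by decide)

theorem card_hTop : Nat.card hTop = 2 * 4089470473293004800 := by
  refine le_antisymm card_hTop_le.2 ?_
  haveI := card_hTop_le.1
  let F : Spor.Fi23 × Bool → hTop := fun p =>
    ⟨if p.2 then iota p.1 * gg 11 else iota p.1, by
      cases p.2
      · exact iota_mem _
      · exact mul_mem (iota_mem _) (gg_mem (by decide))⟩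
  have hF : Function.Injective F := by
    rintro ⟨u, a⟩ ⟨v, b⟩ e
    have e' := congrArg Subtype.val e
    cases a <;> cases b <;> simp only [F, Bool.false_eq_true, if_false, if_true] at e'
    · rw [iota_injective e']
    · exact absurd ⟨v⁻¹ * u, by rw [map_mul, map_inv, e', inv_mul_cancel_left]⟩ l_notMem
    · exact absurd ⟨u⁻¹ * v, by rw [map_mul, map_inv, ← e', inv_mul_cancel_left]⟩ l_notMem
    · rw [iota_injective (mul_right_cancel e')]
  have := Nat.card_le_card_of_injective F hF
  rwa [Nat.card_prod, FiThree.card_fi23, Nat.card_eq_fintype_card (α := Bool), Fintype.card_bool, Nat.mul_comm] at this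

theorem card_fi24 : Nat.card Spor.Fi24 = 2 * 1255205709190661721292800 := by
  rw [← Subgroup.card_mul_index hTop, card_hTop, index_hTop, Nat.mul_assoc,
    show (4089470473293004800 * 306936 : ℕ) = 1255205709190661721292800 by decide +kernel]

end CfsgLib.Recog.FiFour
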