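import Cfsg.Agent.Lib.Recog.FiThree.Data

set_option autoImplicit false
set_option maxRecDepth 20000

/-! Words for the local closure argument in Fi24 (owner: helper21). -/

namespace CfsgLib.Recog.FiFour
open CfsgLib.Recog.BitPerm

/-- An orbit representative on 31671 points: point, rounds, a word to it, and where the moved point lies. -/
structure Rep where
  /-- point -/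
  pt : ℕ
  /-- rounds -/
  rounds : ℕ
  /-- word -/
  word : List ℕ
  /-- 0: base, 1: commuting, 2: the rest -/
  kind : ℕ
  /-- word of the target -/
  tgt : List ℕ

/-- The involution moving the base point to a commuting one. -/
def gW : List ℕ := [10, 0, 11, 10]

/-- The letters commuting with `gW`. -/
def aLetters : List ℕ := [2, 3, 4, 5, 6, 7, 8, 9]

/-- The letters commuting with `k`. -/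
def bLetters : List ℕ := [1, 2, 3, 4, 5, 6, 7, 8, 9]

/-- An element of order three fixing the point of `k`. -/
def tW : List ℕ := [0, 1, 0, 2, 3, 4, 5, 6, 7, 3, 2, 1, 4, 3, 5, 8, 7, 3, 2, 1, 0, 4, 3, 2, 1, 5, 4, 7, 3, 2, 8, 7, 3, 4, 5, 6, 9, 6, 5, 4, 3, 7, 8, 2, 3, 7, 4, 5, 1, 2, 3, 4, 0, 1, 2, 3, 7, 8, 5, 3, 4, 1, 2, 3, 7, 6, 5, 4, 3, 2, 1, 0]

/-- Words fixing the point of `k`. -/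
def sWords : List (List ℕ) := [[1, 2], [1, 3], [1, 4], [1, 5], [1, 6], [1, 7], [1, 8], [1, 9], [2, 1], [3, 1], [4, 1], [5, 1], [6, 1], [7, 1], [8, 1], [9, 1]] ++ [tW]

/-- Representatives for `gW`. -/
def aReps : List Rep := [
  ⟨0, 10, [], 1, []⟩,
  ⟨8, 7, [1, 2, 3, 4, 5, 6, 9], 2, [7, 3, 4, 5, 6, 9, 2, 3, 7, 4, 5, 3, 4, 2, 3, 7, 6, 5, 4, 3, 2, 1, 0]⟩,
  ⟨11, 7, [0, 1, 2, 3, 4, 5, 6, 9], 2, [7, 3, 4, 5, 6, 9, 2, 3, 7, 4, 5, 3, 4, 2, 3, 7, 6, 5, 4, 3, 2, 0, 1, 0]⟩,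
  ⟨39, 6, [1, 2, 3, 7, 0, 1, 2, 3, 4, 5, 6, 9], 1, [4, 3, 7, 2, 3, 4, 1, 2, 3, 7, 0, 1, 2, 3, 4, 5, 6, 9]⟩,
  ⟨200, 6, [1, 2, 3, 7, 8, 4, 3, 7, 0, 1, 2, 3, 4, 5, 6, 9], 2, [5, 6, 9, 3, 7, 8, 2, 3, 7, 1, 2, 3, 4, 0, 1, 2, 3, 7, 8, 5, 4, 3, 7, 6, 5, 4, 3, 2, 0, 1, 0]⟩,
  ⟨11589, 0, [1, 2, 3, 4, 5, 6, 9, 7, 3, 4, 2, 3, 7, 5, 6, 4, 5, 3, 4, 2, 3, 7, 0, 1, 2, 3, 4, 5, 6, 9], 0, []⟩,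
  ⟨21635, 4, [1, 2, 3, 7, 8, 4, 3, 7, 5, 6, 4, 5, 2, 3, 4, 1, 2, 3, 7, 8, 5, 3, 4, 1, 2, 3, 7, 0, 1, 2, 3, 4, 5, 6, 9], 2, [7, 1, 2, 3, 4, 5, 6, 9, 7, 8, 3, 7, 4, 5, 2, 3, 4, 1, 2, 3, 7, 8, 7, 4, 5, 3, 4, 1, 2, 3, 7, 6, 5, 4, 3, 2, 1, 0]⟩,
  ⟨23115, 4, [0, 1, 2, 3, 7, 8, 4, 3, 7, 5, 6, 4, 5, 2, 3, 4, 1, 2, 3, 7, 8, 5, 3, 4, 1, 2, 3, 7, 0, 1, 2, 3, 4, 5, 6, 9], 2, [7, 1, 2, 3, 4, 5, 6, 9, 7, 8, 3, 7, 4, 5, 2, 3, 4, 1, 2, 3, 7, 8, 7, 4, 5, 3, 4, 1, 2, 3, 7, 6, 5, 4, 3, 2, 0, 1, 0]⟩,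
  ⟨30498, 2, [1, 2, 3, 4, 5, 6, 9, 0, 1, 2, 3, 7, 8, 4, 3, 7, 5, 6, 4, 5, 2, 3, 4, 1, 2, 3, 7, 8, 5, 3, 4, 1, 2, 3, 7, 0, 1, 2, 3, 4, 5, 6, 9], 1, [1, 2, 3, 4, 5, 6, 9, 0, 1, 2, 3, 7, 8, 4, 3, 7, 5, 6, 4, 5, 2, 3, 4, 1, 2, 3, 7, 8, 5, 3, 4, 1, 2, 3, 7, 0, 1, 2, 3, 4, 5, 6, 9]⟩]

/-- Representatives for `k`. -/
def bReps : List Rep := [
  ⟨0, 11, [], 1, []⟩,
  ⟨11, 8, [0, 1, 2, 3, 4, 5, 6, 9], 2, [7, 3, 4, 5, 6, 9, 2, 3, 7, 4, 5, 3, 4, 2, 3, 7, 6, 5, 4, 3, 2, 1, 0]⟩,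
  ⟨23115, 4, [0, 1, 2, 3, 7, 8, 4, 3, 7, 5, 6, 4, 5, 2, 3, 4, 1, 2, 3, 7, 8, 5, 3, 4, 1, 2, 3, 7, 0, 1, 2, 3, 4, 5, 6, 9], 1, [0, 1, 2, 3, 7, 8, 4, 3, 7, 5, 6, 4, 5, 2, 3, 4, 1, 2, 3, 7, 8, 5, 3, 4, 1, 2, 3, 7, 0, 1, 2, 3, 4, 5, 6, 9]⟩]

/-- The union of the orbits of the representatives. -/
noncomputable def orbitUnion (letters : List ℕ) (L : List Rep) : ℕ :=
  List.rec (motive := fun _ => ℕ) 0 (fun R _ ih => Nat.lor (orbitSet FiThree.net (letters.map fun x => [x]) R.pt R.rounds) ih) L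

/-- The chain of the stabiliser of the point of `k`. -/
def sLevels : List Level := [
  ⟨0, [[1, 9], [6, 1], [0, 1, 0, 2, 3, 4, 5, 6, 7, 3, 2, 1, 4, 3, 5, 8, 7, 3, 2, 1, 0, 4, 3, 2, 1, 5, 4, 7, 3, 2, 8, 7, 3, 4, 5, 6, 9, 6, 5, 4, 3, 7, 8, 2, 3, 7, 4, 5, 1, 2, 3, 4, 0, 1, 2, 3, 7, 8, 5, 3, 4, 1, 2, 3, 7, 6, 5, 4, 3, 2, 1, 0], [1, 2], [1, 3], [1, 7]], 4, 3240⟩,
  ⟨1, [[6, 1], [1, 5], [4, 1], [1, 3], [1, 7], [2, 1], [1, 8]], 9, 728⟩,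
  ⟨224, [[1, 3], [1, 7], [1, 2], [1, 4], [5, 1]], 5, 240⟩,
  ⟨2, [[1, 5], [4, 1], [1, 3, 1, 7, 1, 4, 1, 3, 8, 7, 2, 1, 3, 1, 4, 1, 2, 1, 3, 1], [7, 1]], 4, 81⟩,
  ⟨8002, [[1, 3, 1, 7, 1, 4, 1, 3, 8, 7, 2, 1, 3, 1, 4, 1, 2, 1, 3, 1], [7, 1]], 4, 9⟩,
  ⟨3, [[4, 1]], 1, 2⟩,
  ⟨94, [[1, 2]], 2, 3⟩,
  ⟨5, [[7, 1], [1, 8]], 1, 3⟩,
  ⟨6, [[1, 8]], 1, 2⟩]

end CfsgLib.Recog.FiFour
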