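import Cfsg.Agent.Lib.Recog.BitPerm.Basic

set_option autoImplicit false
set_option maxRecDepth 20000

/-! Long masks in chunks (owner: helper21). -/

namespace CfsgLib.Recog.FiFour

/-- Joining two chunks. -/
noncomputable def pack (lo hi s : ℕ) : ℕ := Nat.lor lo (Nat.shiftLeft hi s)

end CfsgLib.Recog.FiFour
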