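import Cfsg.Agent.Lib.Recog.FiFour.Nets
import Cfsg.Agent.Lib.Recog.FiFour.RelData

set_option autoImplicit false
set_option maxRecDepth 20000

/-! Relator checks on 306936 points (owner: helper21). -/

namespace CfsgLib.Recog.FiFour

theorem rel12 : ((pairParts.getD 12 []).all fun w => idFrom w 0 19) = true := by decide +kernel

end CfsgLib.Recog.FiFour
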