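import Cfsg.Agent.Lib.Recog.FiFour.YData
import Cfsg.Agent.Lib.Recog.FiThree.Tower
import Cfsg.Agent.Lib.Recog.SporBound.SpiderC1.Valid
import Cfsg.Agent.Lib.Recog.SporBound.SpiderC2.Valid
import Cfsg.Agent.Lib.Recog.SporBound.SpiderC3.Valid
import Cfsg.Agent.Lib.Recog.SporBound.SpiderC4.Valid
import Cfsg.Agent.Lib.Recog.SporBound.SpiderC5.Valid
import Cfsg.Agent.Lib.Recog.SporBound.SpiderC6.Valid
import Cfsg.Agent.Lib.Recog.SporBound.SpiderC7.Valid
import Cfsg.Agent.Lib.Recog.SporBound.SpiderIn.Valid
import Cfsg.Prelude.Def_Spor_Fi24

set_option autoImplicit false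
set_option maxRecDepth 20000
set_option linter.style.haveILetI false

/-!
The spider relation follows from `l = (abcdefh)^9` in Y522, hence holds in the presented Fi24 (owner: helper21).
-/

namespace CfsgLib.Recog.FiFour

open Cfsg CfsgLib.Recog.BitPerm CfsgLib.Recog.SporBound CfsgLib.ThreeTrans.CosetIndex
open CfsgLib.Recog.FiThree (Below below_step below_nil)

theorem yNodes : Nodes ySides yGens where
  nodes := by decide
  mem := List.mem_finRange
  small := by decide

/-- The parabolic letters without `i`. -/
def yKeep : List ℕ := [0, 1, 2, 3, 4, 5, 6, 8, 9]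

theorem below_keep : Below ySides yExtra yGens yKeep 348364800 :=
  below_step yNodes SpiderC7.ok
    (below_step yNodes SpiderC6.ok
      (below_step yNodes SpiderC5.ok
        (below_step yNodes SpiderC4.ok
          (below_step yNodes SpiderC3.ok
            (below_step yNodes SpiderC2.ok
              (below_step yNodes SpiderC1.ok below_nil (kl' := [0, 1]) (n := 6) (by decide +kernel) (by decide +kernel)
                (by decide +kernel) (by decide +kernel))
              (kl' := [0, 1, 2]) (n := 24) (by decide +kernel) (by decide +kernel) (by decide +kernel) (by decide +kernel))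
            (kl' := [0, 1, 2, 3]) (n := 120) (by decide +kernel) (by decide +kernel) (by decide +kernel) (by decide +kernel))
          (kl' := [0, 1, 2, 3, 4]) (n := 720) (by decide +kernel) (by decide +kernel) (by decide +kernel) (by decide +kernel))
        (kl' := [0, 1, 2, 3, 4, 5]) (n := 5040) (by decide +kernel) (by decide +kernel) (by decide +kernel) (by decide +kernel))
      (kl' := [0, 1, 2, 3, 4, 5, 6]) (n := 2903040) (by decide +kernel) (by decide +kernel) (by decide +kernel) (by decide +kernel))
    (by decide +kernel) (by decide +kernel) (by decide +kernel) (by decide +kernel)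

theorem y_nets_ok : netsOK 11 10 yNet = true := by decide +kernel

theorem y_rels : (relWords ySides yExtra yGens).all (fun w => idOK 11 yNet w) = true := by decide +kernel

theorem y_sq : (List.range 10).all (fun x => idOK 11 yNet [x, x]) = true := by decide +kernel

theorem yActs : Acts ySides yExtra yGens 11 yNet where
  valid := Valid.of_check y_nets_ok fun x hx => List.getD_eq_default _ _ (by simpa [yNetList] using hx)
  nodup := List.nodup_finRange 10
  big x hx := List.getD_eq_default _ _ (by simpa [yNetList, yGens] using hx)
  sq x hx := List.all_eq_true.1 y_sq x (List.mem_range.2 (by simpa [yGens] using hx))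
  rels w hw := List.all_eq_true.1 y_rels w hw

theorem y_chain : chainOK yNet 8 [] yLevels = true := by decide +kernel

theorem y_total : total yLevels = 348364800 := by decide +kernel

theorem y_letters : (yLevels.all fun l => l.gens.all fun w => w.all (yKeep.contains ·)) = true := by decide +kernel

theorem y_spider_id : idOK 11 yNet ySpider = true := by decide +kernel

theorem y_spider_closes : SpiderIn.cert.endsAt (SpiderIn.closers.getD 0 0) 0 ySpider = true ∧
    fld (SpiderIn.closers.getD 0 0) 0 = 0 := by decide +kernel

theorem y_spider : (ySpider.map (gen ySides yExtra yGens)).prod = 1 := by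
  haveI := below_keep.1
  obtain ⟨v, hv0, good, -⟩ := Cert.exists_orbit (gen_inv yNodes) (gen_eq yNodes) SpiderIn.ok
    (letterSub ySides yExtra yGens yKeep) (rels_one yNodes (more := []) (by simp) (by decide +kernel))
    (wordsIn_letterSub (by decide +kernel))
  have hmem := Cert.mem_of_endsAt (gen_inv yNodes) (gen_eq yNodes) SpiderIn.ok hv0 good y_spider_closes.1
    y_spider_closes.2
  set K := letterSub ySides yExtra yGens yKeep
  set ψ := (action yActs).comp K.subtype
  have hle : 348364800 * Nat.card ψ.ker ≤ 348364800 := by
    refine le_trans ?_ below_keep.2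
    have h := total_mul_ker_le_card yActs.valid ψ (fun l hl w hw => ⟨⟨_, mem_letterSub fun x hx =>
      List.contains_iff_mem.1 (List.all_eq_true.1 (List.all_eq_true.1 (List.all_eq_true.1 y_letters l hl) w hw) x hx)⟩,
      action_word yActs w⟩) y_chain
    rwa [y_total] at h
  have hpos : 0 < Nat.card ψ.ker := Nat.card_pos
  have hinj : Function.Injective ψ := (MonoidHom.ker_eq_bot_iff _).1 (Subgroup.eq_bot_of_card_le _ (by omega))
  have : (⟨_, hmem⟩ : K) = 1 := hinj (by
    rw [map_one]
    exact (action_word yActs ySpider).trans (wordPerm_eq_one yActs.valid y_spider_id))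
  exact congrArg Subtype.val this

/-- The generators of Fi24 in the order of the letters. -/
def gens24 : List Spor.Fi24.Gen := [.a, .b, .c, .d, .e, .f, .g, .h, .i, .j, .k, .l]

theorem nodes24 : Nodes Spor.Fi24.edges gens24 where
  nodes y := by cases y <;> decide
  mem y := by cases y <;> decide
  small := by decide

/-- The letters of Fi24. -/
abbrev gg : ℕ → Spor.Fi24 := gen Spor.Fi24.edges Spor.Fi24.extra gens24

theorem gg_sq (x : ℕ) : gg x * gg x = 1 := gen_inv nodes24 x

/-- The letters of Y522 among those of Fi24. -/
def yMap (x : ℕ) : ℕ := [0, 1, 2, 3, 4, 5, 7, 8, 10, 11].getD x 12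

theorem y_rels24 : ((relWords ySides yExtra yGens).all fun w =>
    (relWords Spor.Fi24.edges Spor.Fi24.extra gens24).contains (w.map yMap)) = true := by decide +kernel

/-- Y522 into Fi24. -/
noncomputable def yHom : Spor.CoxPresented (Fin 10) ySides yExtra →* Spor.Fi24 :=
  PresentedGroup.toGroup (f := fun y => gg (yMap (yGens.idxOf y))) (by
    intro r hr
    rw [hom_eq_prod yGens _ (fun x => gg (yMap x)) (fun y => FreeGroup.lift_apply_of) (fun x => gg_sq _)]
    have hw : letters yGens r ∈ relWords ySides yExtra yGens := by
      rw [relWords, List.mem_append]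
      rcases hr with ⟨x, hx, y, hy, rfl⟩ | hr
      · exact Or.inl (List.mem_flatMap.2 ⟨x, hx, List.mem_map.2 ⟨y, hy, rfl⟩⟩)
      · exact Or.inr (List.mem_map.2 ⟨r, hr, rfl⟩)
    have h := relWord_one nodes24 (List.contains_iff_mem.1 (List.all_eq_true.1 y_rels24 _ hw))
    rwa [List.map_map] at h)

/-- The spider word in the letters of Fi24. -/
def spider : List ℕ := ySpider.map yMap

theorem spider_one : (spider.map gg).prod = 1 := by
  have h := congrArg yHom y_spider
  rw [map_one, map_list_prod, List.map_map] at h
  rw [← h, spider, List.map_map]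
  refine congrArg List.prod (List.map_congr_left fun x hx => ?_)
  have hx10 : x < 10 := (show ∀ y ∈ ySpider, y < 10 by decide +kernel) x hx
  have hlen : x < yGens.length := by simpa [yGens] using hx10
  show gg (yMap x) = yHom (gen ySides yExtra yGens x)
  unfold gen
  rw [List.getElem?_eq_getElem hlen]
  show _ = yHom (PresentedGroup.of yGens[x])
  rw [yHom, PresentedGroup.toGroup.of, (show yGens.Nodup from List.nodup_finRange 10).idxOf_getElem _ hlen]

end CfsgLib.Recog.FiFour
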